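import Cfsg.Agent.H745.TF.Def

/-!
# S5262: the universal property of the unipotent group of `²F₄(q)` (helper659)

* `exists_el` : in a group with `OctRel`, the subgroup generated by all root elements is the set of the ordered products;
* `ump` : a group with coordinates maps to every group with `OctRel`.
-/

set_option autoImplicit false

namespace Cfsg.Agent.H659.TF

open Cfsg.Agent.Octagon.Pkg Cfsg.Agent.H745.TF

universe u v w

section tower

variable {K : Type u} [Field K] {σ : K →+* K} {G : Type v} [Group G] {x1 x3 x5 x7 : K → G} {x2 x4 x6 x8 : K → K → G}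

/-- the root elements -/
inductive Gen (x1 x3 x5 x7 : K → G) (x2 x4 x6 x8 : K → K → G) : ℕ → G → Prop
  | g1 (t : K) : Gen x1 x3 x5 x7 x2 x4 x6 x8 1 (x1 t)
  | g2 (p u : K) : Gen x1 x3 x5 x7 x2 x4 x6 x8 2 (x2 p u)
  | g3 (t : K) : Gen x1 x3 x5 x7 x2 x4 x6 x8 3 (x3 t)
  | g4 (p u : K) : Gen x1 x3 x5 x7 x2 x4 x6 x8 4 (x4 p u)
  | g5 (t : K) : Gen x1 x3 x5 x7 x2 x4 x6 x8 5 (x5 t)
  | g6 (p u : K) : Gen x1 x3 x5 x7 x2 x4 x6 x8 6 (x6 p u)
  | g7 (t : K) : Gen x1 x3 x5 x7 x2 x4 x6 x8 7 (x7 t)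
  | g8 (p u : K) : Gen x1 x3 x5 x7 x2 x4 x6 x8 8 (x8 p u)

/-- generated by the root elements of index `≥ j` -/
def MM (x1 x3 x5 x7 : K → G) (x2 x4 x6 x8 : K → K → G) (j : ℕ) : Subgroup G :=
  Subgroup.closure {g | ∃ k, j ≤ k ∧ Gen x1 x3 x5 x7 x2 x4 x6 x8 k g}

theorem mem_MM {j k : ℕ} {g : G} (h : Gen x1 x3 x5 x7 x2 x4 x6 x8 k g) (hk : j ≤ k) :
    g ∈ MM x1 x3 x5 x7 x2 x4 x6 x8 j := Subgroup.subset_closure ⟨k, hk, h⟩

theorem one_of_idem {a : G} (h : a * a = a) : a = 1 := mul_eq_left.1 h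

variable (R : OctRel σ x1 x3 x5 x7 x2 x4 x6 x8)
include R

theorem x1_zero : x1 0 = 1 := one_of_idem (by rw [R.m1, add_zero])
theorem x3_zero : x3 0 = 1 := one_of_idem (by rw [R.m3, add_zero])
theorem x5_zero : x5 0 = 1 := one_of_idem (by rw [R.m5, add_zero])
theorem x7_zero : x7 0 = 1 := one_of_idem (by rw [R.m7, add_zero])
theorem x2_zero : x2 0 0 = 1 := one_of_idem (by rw [R.m2]; simp)
theorem x4_zero : x4 0 0 = 1 := one_of_idem (by rw [R.m4]; simp)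
theorem x6_zero : x6 0 0 = 1 := one_of_idem (by rw [R.m6]; simp)
theorem x8_zero : x8 0 0 = 1 := one_of_idem (by rw [R.m8]; simp)

/-- every index has the identity, products and inverses -/
theorem gen_one {j : ℕ} (h1 : 1 ≤ j) (h8 : j ≤ 8) : Gen x1 x3 x5 x7 x2 x4 x6 x8 j 1 := by
  interval_cases j
  · rw [← x1_zero R]; exact .g1 0
  · rw [← x2_zero R]; exact .g2 0 0
  · rw [← x3_zero R]; exact .g3 0
  · rw [← x4_zero R]; exact .g4 0 0
  · rw [← x5_zero R]; exact .g5 0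
  · rw [← x6_zero R]; exact .g6 0 0
  · rw [← x7_zero R]; exact .g7 0
  · rw [← x8_zero R]; exact .g8 0 0

theorem gen_mul {j : ℕ} {a b : G} (ha : Gen x1 x3 x5 x7 x2 x4 x6 x8 j a) (hb : Gen x1 x3 x5 x7 x2 x4 x6 x8 j b) :
    Gen x1 x3 x5 x7 x2 x4 x6 x8 j (a * b) := by
  cases ha with
  | g1 t => cases hb with | g1 s => rw [R.m1]; exact .g1 _
  | g2 t u => cases hb with | g2 s v => rw [R.m2]; exact .g2 _ _
  | g3 t => cases hb with | g3 s => rw [R.m3]; exact .g3 _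
  | g4 t u => cases hb with | g4 s v => rw [R.m4]; exact .g4 _ _
  | g5 t => cases hb with | g5 s => rw [R.m5]; exact .g5 _
  | g6 t u => cases hb with | g6 s v => rw [R.m6]; exact .g6 _ _
  | g7 t => cases hb with | g7 s => rw [R.m7]; exact .g7 _
  | g8 t u => cases hb with | g8 s v => rw [R.m8]; exact .g8 _ _

theorem gen_inv {j : ℕ} {a : G} (ha : Gen x1 x3 x5 x7 x2 x4 x6 x8 j a) :
    Gen x1 x3 x5 x7 x2 x4 x6 x8 j a⁻¹ := by
  cases ha with
  | g1 t => rw [inv_eq_of_mul_eq_one_right (b := x1 (-t)) (by rw [R.m1, add_neg_cancel, x1_zero R])]; exact .g1 _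
  | g3 t => rw [inv_eq_of_mul_eq_one_right (b := x3 (-t)) (by rw [R.m3, add_neg_cancel, x3_zero R])]; exact .g3 _
  | g5 t => rw [inv_eq_of_mul_eq_one_right (b := x5 (-t)) (by rw [R.m5, add_neg_cancel, x5_zero R])]; exact .g5 _
  | g7 t => rw [inv_eq_of_mul_eq_one_right (b := x7 (-t)) (by rw [R.m7, add_neg_cancel, x7_zero R])]; exact .g7 _
  | g2 p u =>
    rw [inv_eq_of_mul_eq_one_right (b := x2 (-p) (-u - p * σ (-p))) (by
      rw [R.m2, add_neg_cancel, show u + (-u - p * σ (-p)) + p * σ (-p) = 0 by ring, x2_zero R])]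
    exact .g2 _ _
  | g4 p u =>
    rw [inv_eq_of_mul_eq_one_right (b := x4 (-p) (-u - p * σ (-p))) (by
      rw [R.m4, add_neg_cancel, show u + (-u - p * σ (-p)) + p * σ (-p) = 0 by ring, x4_zero R])]
    exact .g4 _ _
  | g6 p u =>
    rw [inv_eq_of_mul_eq_one_right (b := x6 (-p) (-u - p * σ (-p))) (by
      rw [R.m6, add_neg_cancel, show u + (-u - p * σ (-p)) + p * σ (-p) = 0 by ring, x6_zero R])]
    exact .g6 _ _
  | g8 p u =>
    rw [inv_eq_of_mul_eq_one_right (b := x8 (-p) (-u - p * σ (-p))) (by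
      rw [R.m8, add_neg_cancel, show u + (-u - p * σ (-p)) + p * σ (-p) = 0 by ring, x8_zero R])]
    exact .g8 _ _

omit R in
theorem conj_of_rel {M : Subgroup G} {a y c : G} (h : a * y = y * a * c) (hy : y ∈ M) (hc : c ∈ M) : a⁻¹ * y * a ∈ M := by
  have h1 : a⁻¹ * y * a = y * c⁻¹ := by
    rw [mul_assoc, inv_mul_eq_iff_eq_mul, ← mul_assoc, h]
    group
  rw [h1]
  exact M.mul_mem hy (M.inv_mem hc)

omit R in
theorem conj_of_comm {M : Subgroup G} {a y : G} (h : a * y = y * a) (hy : y ∈ M) : a⁻¹ * y * a ∈ M := by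
  have h1 : a⁻¹ * y * a = y := by
    rw [mul_assoc, ← h, inv_mul_cancel_left]
  rwa [h1]

theorem conj_gen {j k : ℕ} {a y : G} (ha : Gen x1 x3 x5 x7 x2 x4 x6 x8 j a) (hy : Gen x1 x3 x5 x7 x2 x4 x6 x8 k y)
    (h : j < k) : a⁻¹ * y * a ∈ MM x1 x3 x5 x7 x2 x4 x6 x8 (j + 1) := by
  have e1 : ∀ {j : ℕ} (_ : j ≤ 1) (t : K), x1 t ∈ MM x1 x3 x5 x7 x2 x4 x6 x8 j := fun h t => mem_MM (.g1 t) h
  have e2 : ∀ {j : ℕ} (_ : j ≤ 2) (p u : K), x2 p u ∈ MM x1 x3 x5 x7 x2 x4 x6 x8 j := fun h p u => mem_MM (.g2 p u) h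
  have e3 : ∀ {j : ℕ} (_ : j ≤ 3) (t : K), x3 t ∈ MM x1 x3 x5 x7 x2 x4 x6 x8 j := fun h t => mem_MM (.g3 t) h
  have e4 : ∀ {j : ℕ} (_ : j ≤ 4) (p u : K), x4 p u ∈ MM x1 x3 x5 x7 x2 x4 x6 x8 j := fun h p u => mem_MM (.g4 p u) h
  have e5 : ∀ {j : ℕ} (_ : j ≤ 5) (t : K), x5 t ∈ MM x1 x3 x5 x7 x2 x4 x6 x8 j := fun h t => mem_MM (.g5 t) h
  have e6 : ∀ {j : ℕ} (_ : j ≤ 6) (p u : K), x6 p u ∈ MM x1 x3 x5 x7 x2 x4 x6 x8 j := fun h p u => mem_MM (.g6 p u) h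
  have e7 : ∀ {j : ℕ} (_ : j ≤ 7) (t : K), x7 t ∈ MM x1 x3 x5 x7 x2 x4 x6 x8 j := fun h t => mem_MM (.g7 t) h
  have e8 : ∀ {j : ℕ} (_ : j ≤ 8) (p u : K), x8 p u ∈ MM x1 x3 x5 x7 x2 x4 x6 x8 j := fun h p u => mem_MM (.g8 p u) h
  have hy' : y ∈ MM x1 x3 x5 x7 x2 x4 x6 x8 (j + 1) := mem_MM hy h
  cases ha with
  | g1 t =>
    cases hy with
    | g1 s => omega
    | g2 q v => exact conj_of_comm (R.r12 _ _ _) hy'
    | g3 s => exact conj_of_comm (R.r13 _ _) hy'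
    | g4 q v => exact conj_of_rel (R.r14 _ _ _) hy' (e2 (by norm_num) _ _)
    | g5 s => exact conj_of_comm (R.r15 _ _) hy'
    | g6 q v =>
      have h1 := R.r16 t q v
      rw [mul_assoc (x6 q v * x1 t * _), mul_assoc (x6 q v * x1 t)] at h1
      exact conj_of_rel h1 hy' (Subgroup.mul_mem _ (e2 (by norm_num) _ _)
        (Subgroup.mul_mem _ (e3 (by norm_num) _) (e4 (by norm_num) _ _)))
    | g7 s =>
      have h1 := R.r17 t s
      rw [mul_assoc (x7 s * x1 t)] at h1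
      exact conj_of_rel h1 hy' (Subgroup.mul_mem _ (e3 (by norm_num) _) (e5 (by norm_num) _))
    | g8 q v =>
      have h1 := R.r18 t q v
      simp only [mul_assoc] at h1
      rw [← mul_assoc (x8 q v)] at h1
      refine conj_of_rel h1 hy' ?_
      exact Subgroup.mul_mem _ (e2 (by norm_num) _ _) (Subgroup.mul_mem _ (e3 (by norm_num) _)
        (Subgroup.mul_mem _ (e4 (by norm_num) _ _) (Subgroup.mul_mem _ (e5 (by norm_num) _)
        (Subgroup.mul_mem _ (e6 (by norm_num) _ _) (e7 (by norm_num) _)))))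
  | g2 p u =>
    cases hy with
    | g1 s => omega
    | g2 q v => omega
    | g3 s => exact conj_of_comm (R.r23 _ _ _) hy'
    | g4 q v => exact conj_of_rel (R.r24 _ _ _ _) hy' (e3 (by norm_num) _)
    | g5 s => exact conj_of_rel (R.r25 _ _ _) hy' (e4 (by norm_num) _ _)
    | g6 q v => exact conj_of_comm (R.r26 _ _ _ _) hy'
    | g7 s =>
      have h1 := R.r27 p u s
      simp only [mul_assoc] at h1
      rw [← mul_assoc (x7 s)] at h1
      exact conj_of_rel h1 hy' (Subgroup.mul_mem _ (e4 (by norm_num) _ _)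
        (Subgroup.mul_mem _ (e5 (by norm_num) _) (e6 (by norm_num) _ _)))
    | g8 q v =>
      have h1 := R.r28 p u q v
      simp only [mul_assoc] at h1
      rw [← mul_assoc (x8 q v)] at h1
      refine conj_of_rel h1 hy' ?_
      exact Subgroup.mul_mem _ (e3 (by norm_num) _)
        (Subgroup.mul_mem _ (e4 (by norm_num) _ _) (Subgroup.mul_mem _ (e5 (by norm_num) _)
        (Subgroup.mul_mem _ (e6 (by norm_num) _ _) (e7 (by norm_num) _))))
  | g3 t =>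
    cases hy with
    | g1 s => omega
    | g2 q v => omega
    | g3 s => omega
    | g4 q v => exact conj_of_comm (R.r34 _ _ _) hy'
    | g5 s => exact conj_of_comm (R.r35 _ _) hy'
    | g6 q v => exact conj_of_rel (R.r36 _ _ _) hy' (e4 (by norm_num) _ _)
    | g7 s => exact conj_of_comm (R.r37 _ _) hy'
    | g8 q v =>
      have h1 := R.r38 t q v
      simp only [mul_assoc] at h1
      rw [← mul_assoc (x8 q v)] at h1
      exact conj_of_rel h1 hy' (Subgroup.mul_mem _ (e4 (by norm_num) _ _)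
        (Subgroup.mul_mem _ (e5 (by norm_num) _) (e6 (by norm_num) _ _)))
  | g4 p u =>
    cases hy with
    | g1 s => omega
    | g2 q v => omega
    | g3 s => omega
    | g4 q v => omega
    | g5 s => exact conj_of_comm (R.r45 _ _ _) hy'
    | g6 q v => exact conj_of_rel (R.r46 _ _ _ _) hy' (e5 (by norm_num) _)
    | g7 s => exact conj_of_rel (R.r47 _ _ _) hy' (e6 (by norm_num) _ _)
    | g8 q v => exact conj_of_comm (R.r48 _ _ _ _) hy'
  | g5 t =>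
    cases hy with
    | g1 s => omega
    | g2 q v => omega
    | g3 s => omega
    | g4 q v => omega
    | g5 s => omega
    | g6 q v => exact conj_of_comm (R.r56 _ _ _) hy'
    | g7 s => exact conj_of_comm (R.r57 _ _) hy'
    | g8 q v => exact conj_of_rel (R.r58 _ _ _) hy' (e6 (by norm_num) _ _)
  | g6 p u =>
    cases hy with
    | g1 s => omega
    | g2 q v => omega
    | g3 s => omega
    | g4 q v => omega
    | g5 s => omega
    | g6 q v => omega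
    | g7 s => exact conj_of_comm (R.r67 _ _ _) hy'
    | g8 q v => exact conj_of_rel (R.r68 _ _ _ _) hy' (e7 (by norm_num) _)
  | g7 t =>
    cases hy with
    | g1 s => omega
    | g2 q v => omega
    | g3 s => omega
    | g4 q v => omega
    | g5 s => omega
    | g6 q v => omega
    | g7 s => omega
    | g8 q v => exact conj_of_comm (R.r78 _ _ _) hy'
  | g8 p u =>
    cases hy <;> omega

theorem conj_MM {j : ℕ} {a n : G} (ha : Gen x1 x3 x5 x7 x2 x4 x6 x8 j a)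
    (hn : n ∈ MM x1 x3 x5 x7 x2 x4 x6 x8 (j + 1)) : a⁻¹ * n * a ∈ MM x1 x3 x5 x7 x2 x4 x6 x8 (j + 1) := by
  refine Subgroup.closure_induction (p := fun n _ => a⁻¹ * n * a ∈ MM x1 x3 x5 x7 x2 x4 x6 x8 (j + 1)) ?_ ?_ ?_ ?_ hn
  · rintro y ⟨k, hk, hy⟩
    exact conj_gen R ha hy hk
  · rw [mul_one, inv_mul_cancel]
    exact Subgroup.one_mem _
  · intro x y _ _ hx hy
    have : a⁻¹ * (x * y) * a = (a⁻¹ * x * a) * (a⁻¹ * y * a) := by group
    rw [this]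
    exact Subgroup.mul_mem _ hx hy
  · intro x _ hx
    have : a⁻¹ * x⁻¹ * a = (a⁻¹ * x * a)⁻¹ := by group
    rw [this]
    exact Subgroup.inv_mem _ hx

/-- one step of the decomposition -/
theorem exists_step {j : ℕ} (h1 : 1 ≤ j) (h8 : j ≤ 8) {g : G} (hg : g ∈ MM x1 x3 x5 x7 x2 x4 x6 x8 j) :
    ∃ a n, Gen x1 x3 x5 x7 x2 x4 x6 x8 j a ∧ n ∈ MM x1 x3 x5 x7 x2 x4 x6 x8 (j + 1) ∧ g = a * n := by
  refine Subgroup.closure_induction
    (p := fun g _ => ∃ a n, Gen x1 x3 x5 x7 x2 x4 x6 x8 j a ∧ n ∈ MM x1 x3 x5 x7 x2 x4 x6 x8 (j + 1) ∧ g = a * n)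
    ?_ ?_ ?_ ?_ hg
  · rintro y ⟨k, hk, hy⟩
    rcases Nat.eq_or_lt_of_le hk with rfl | hk
    · exact ⟨y, 1, hy, Subgroup.one_mem _, (mul_one y).symm⟩
    · exact ⟨1, y, gen_one R h1 h8, mem_MM hy hk, (one_mul y).symm⟩
  · exact ⟨1, 1, gen_one R h1 h8, Subgroup.one_mem _, (mul_one 1).symm⟩
  · rintro _ _ _ _ ⟨a, n, ha, hn, rfl⟩ ⟨b, m, hb, hm, rfl⟩
    refine ⟨a * b, b⁻¹ * n * b * m, gen_mul R ha hb, Subgroup.mul_mem _ (conj_MM R hb hn) hm, ?_⟩
    group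
  · rintro _ _ ⟨a, n, ha, hn, rfl⟩
    have h2 := conj_MM R (gen_inv R ha) (Subgroup.inv_mem _ hn)
    refine ⟨a⁻¹, a⁻¹⁻¹ * n⁻¹ * a⁻¹, gen_inv R ha, h2, ?_⟩
    group

/-- the elements of the subgroup generated by all root elements -/
theorem exists_el {g : G} (hg : g ∈ MM x1 x3 x5 x7 x2 x4 x6 x8 1) :
    ∃ c : Cd K, g = x1 c.a1 * x2 c.a2 c.b2 * x3 c.a3 * x4 c.a4 c.b4 * x5 c.a5 * x6 c.a6 c.b6 * x7 c.a7 * x8 c.a8 c.b8 := by
  obtain ⟨b1, g1, h1, hg1, e1⟩ := exists_step R (by norm_num) (by norm_num) hg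
  obtain ⟨b2, g2, h2, hg2, e2⟩ := exists_step R (by norm_num) (by norm_num) hg1
  obtain ⟨b3, g3, h3, hg3, e3⟩ := exists_step R (by norm_num) (by norm_num) hg2
  obtain ⟨b4, g4, h4, hg4, e4⟩ := exists_step R (by norm_num) (by norm_num) hg3
  obtain ⟨b5, g5, h5, hg5, e5⟩ := exists_step R (by norm_num) (by norm_num) hg4
  obtain ⟨b6, g6, h6, hg6, e6⟩ := exists_step R (by norm_num) (by norm_num) hg5
  obtain ⟨b7, g7, h7, hg7, e7⟩ := exists_step R (by norm_num) (by norm_num) hg6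
  obtain ⟨b8, g8, h8, hg8, e8⟩ := exists_step R (by norm_num) (by norm_num) hg7
  have h9 : g8 = 1 := by
    refine Subgroup.closure_induction (p := fun g _ => g = 1) ?_ rfl ?_ ?_ hg8
    · rintro y ⟨k, hk, hy⟩
      cases hy <;> omega
    · rintro x y _ _ rfl rfl
      exact mul_one 1
    · rintro x _ rfl
      exact inv_one
  subst h9 e8 e7 e6 e5 e4 e3 e2 e1
  cases h1 with | g1 a1 => ?_
  cases h2 with | g2 a2 b2 => ?_
  cases h3 with | g3 a3 => ?_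
  cases h4 with | g4 a4 b4 => ?_
  cases h5 with | g5 a5 => ?_
  cases h6 with | g6 a6 b6 => ?_
  cases h7 with | g7 a7 => ?_
  cases h8 with | g8 a8 b8 => ?_
  exact ⟨⟨a1, a2, b2, a3, a4, b4, a5, a6, b6, a7, a8, b8⟩, by simp only [mul_assoc, mul_one]⟩

end tower

section ump

variable {K : Type u} [Field K] {σ : K →+* K} {U : Type v} [Group U] {H : Type w} [Group H]

theorem octRel_prod {x1 x3 x5 x7 : K → U} {x2 x4 x6 x8 : K → K → U} (R : OctRel σ x1 x3 x5 x7 x2 x4 x6 x8)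
    {y1 y3 y5 y7 : K → H} {y2 y4 y6 y8 : K → K → H} (R' : OctRel σ y1 y3 y5 y7 y2 y4 y6 y8) :
    OctRel σ (fun t => (x1 t, y1 t)) (fun t => (x3 t, y3 t)) (fun t => (x5 t, y5 t)) (fun t => (x7 t, y7 t))
      (fun p u => (x2 p u, y2 p u)) (fun p u => (x4 p u, y4 p u)) (fun p u => (x6 p u, y6 p u))
      (fun p u => (x8 p u, y8 p u)) where
  m1 t s := Prod.ext (R.m1 t s) (R'.m1 t s)
  m3 t s := Prod.ext (R.m3 t s) (R'.m3 t s)
  m5 t s := Prod.ext (R.m5 t s) (R'.m5 t s)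
  m7 t s := Prod.ext (R.m7 t s) (R'.m7 t s)
  m2 p u q v := Prod.ext (R.m2 p u q v) (R'.m2 p u q v)
  m4 p u q v := Prod.ext (R.m4 p u q v) (R'.m4 p u q v)
  m6 p u q v := Prod.ext (R.m6 p u q v) (R'.m6 p u q v)
  m8 p u q v := Prod.ext (R.m8 p u q v) (R'.m8 p u q v)
  r12 t q v := Prod.ext (R.r12 t q v) (R'.r12 t q v)
  r13 t s := Prod.ext (R.r13 t s) (R'.r13 t s)
  r14 t q v := Prod.ext (R.r14 t q v) (R'.r14 t q v)
  r15 t s := Prod.ext (R.r15 t s) (R'.r15 t s)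
  r16 t q v := Prod.ext (R.r16 t q v) (R'.r16 t q v)
  r17 t s := Prod.ext (R.r17 t s) (R'.r17 t s)
  r18 t q v := Prod.ext (R.r18 t q v) (R'.r18 t q v)
  r23 p u s := Prod.ext (R.r23 p u s) (R'.r23 p u s)
  r24 p u q v := Prod.ext (R.r24 p u q v) (R'.r24 p u q v)
  r25 p u s := Prod.ext (R.r25 p u s) (R'.r25 p u s)
  r26 p u q v := Prod.ext (R.r26 p u q v) (R'.r26 p u q v)
  r27 p u s := Prod.ext (R.r27 p u s) (R'.r27 p u s)
  r28 p u q v := Prod.ext (R.r28 p u q v) (R'.r28 p u q v)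
  r34 t q v := Prod.ext (R.r34 t q v) (R'.r34 t q v)
  r35 t s := Prod.ext (R.r35 t s) (R'.r35 t s)
  r36 t q v := Prod.ext (R.r36 t q v) (R'.r36 t q v)
  r37 t s := Prod.ext (R.r37 t s) (R'.r37 t s)
  r38 t q v := Prod.ext (R.r38 t q v) (R'.r38 t q v)
  r45 p u s := Prod.ext (R.r45 p u s) (R'.r45 p u s)
  r46 p u q v := Prod.ext (R.r46 p u q v) (R'.r46 p u q v)
  r47 p u s := Prod.ext (R.r47 p u s) (R'.r47 p u s)
  r48 p u q v := Prod.ext (R.r48 p u q v) (R'.r48 p u q v)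
  r56 t q v := Prod.ext (R.r56 t q v) (R'.r56 t q v)
  r57 t s := Prod.ext (R.r57 t s) (R'.r57 t s)
  r58 t q v := Prod.ext (R.r58 t q v) (R'.r58 t q v)
  r67 p u s := Prod.ext (R.r67 p u s) (R'.r67 p u s)
  r68 p u q v := Prod.ext (R.r68 p u q v) (R'.r68 p u q v)
  r78 t q v := Prod.ext (R.r78 t q v) (R'.r78 t q v)

/-- **The universal property.** -/
theorem ump (T : TF σ U) {y1 y3 y5 y7 : K → H} {y2 y4 y6 y8 : K → K → H} (R' : OctRel σ y1 y3 y5 y7 y2 y4 y6 y8) :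
    ∃ φ : U →* H, (∀ t, φ (T.x1 t) = y1 t) ∧ (∀ p u, φ (T.x2 p u) = y2 p u) ∧ (∀ t, φ (T.x3 t) = y3 t) ∧
      (∀ p u, φ (T.x4 p u) = y4 p u) ∧ (∀ t, φ (T.x5 t) = y5 t) ∧ (∀ p u, φ (T.x6 p u) = y6 p u) ∧
      (∀ t, φ (T.x7 t) = y7 t) ∧ (∀ p u, φ (T.x8 p u) = y8 p u) := by
  have R := octRel_prod T.rel R'
  set S := MM (fun t => (T.x1 t, y1 t)) (fun t => (T.x3 t, y3 t)) (fun t => (T.x5 t, y5 t)) (fun t => (T.x7 t, y7 t))
      (fun p u => (T.x2 p u, y2 p u)) (fun p u => (T.x4 p u, y4 p u)) (fun p u => (T.x6 p u, y6 p u))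
      (fun p u => (T.x8 p u, y8 p u)) 1 with hS
  have hex : ∀ g ∈ S, ∃ c : Cd K, g.1 = T.el c ∧
      g.2 = y1 c.a1 * y2 c.a2 c.b2 * y3 c.a3 * y4 c.a4 c.b4 * y5 c.a5 * y6 c.a6 c.b6 * y7 c.a7 * y8 c.a8 c.b8 := by
    intro g hg
    obtain ⟨c, hc⟩ := exists_el R hg
    exact ⟨c, congrArg Prod.fst hc, congrArg Prod.snd hc⟩
  have hsurj : ∀ u : U, ∃ h : H, (u, h) ∈ S := by
    intro u
    obtain ⟨c, rfl⟩ := T.bij.2 u
    refine ⟨y1 c.a1 * y2 c.a2 c.b2 * y3 c.a3 * y4 c.a4 c.b4 * y5 c.a5 * y6 c.a6 c.b6 * y7 c.a7 * y8 c.a8 c.b8, ?_⟩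
    exact Subgroup.mul_mem _ (Subgroup.mul_mem _ (Subgroup.mul_mem _ (Subgroup.mul_mem _ (Subgroup.mul_mem _
      (Subgroup.mul_mem _ (Subgroup.mul_mem _ (mem_MM (.g1 c.a1) (by norm_num)) (mem_MM (.g2 c.a2 c.b2) (by norm_num)))
      (mem_MM (.g3 c.a3) (by norm_num))) (mem_MM (.g4 c.a4 c.b4) (by norm_num))) (mem_MM (.g5 c.a5) (by norm_num)))
      (mem_MM (.g6 c.a6 c.b6) (by norm_num))) (mem_MM (.g7 c.a7) (by norm_num))) (mem_MM (.g8 c.a8 c.b8) (by norm_num))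
  have huniq : ∀ {u : U} {h h' : H}, (u, h) ∈ S → (u, h') ∈ S → h = h' := by
    intro u h h' h1 h2
    obtain ⟨c, h3, h4⟩ := hex _ h1
    obtain ⟨c', h5, h6⟩ := hex _ h2
    have h7 : c = c' := T.bij.1 (h3.symm.trans h5)
    subst h7
    exact h4.trans h6.symm
  choose f hf using hsurj
  refine ⟨{ toFun := f
            map_one' := huniq (hf 1) S.one_mem
            map_mul' := fun a b => huniq (hf _) (S.mul_mem (hf a) (hf b)) }, ?_, ?_, ?_, ?_, ?_, ?_, ?_, ?_⟩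
  · exact fun t => huniq (hf _) (mem_MM (.g1 t) (by norm_num))
  · exact fun p u => huniq (hf _) (mem_MM (.g2 p u) (by norm_num))
  · exact fun t => huniq (hf _) (mem_MM (.g3 t) (by norm_num))
  · exact fun p u => huniq (hf _) (mem_MM (.g4 p u) (by norm_num))
  · exact fun t => huniq (hf _) (mem_MM (.g5 t) (by norm_num))
  · exact fun p u => huniq (hf _) (mem_MM (.g6 p u) (by norm_num))
  · exact fun t => huniq (hf _) (mem_MM (.g7 t) (by norm_num))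
  · exact fun p u => huniq (hf _) (mem_MM (.g8 p u) (by norm_num))

end ump

end Cfsg.Agent.H659.TF
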