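import Cfsg.Agent.H659.TF.Heis
import Cfsg.Agent.H745.TF.Stmts

/-!
# S5262, StPos: the action of an automorphism on the quotient `X1 X2/Z2 X8/Z8` (helper659)

`autotopism` : `α` acts as `f τ` on `X1`, as `g τ` on `X8/Z8`.
-/

set_option autoImplicit false

namespace Cfsg.Agent.H659.TF

open Cfsg.Agent.Octagon.Pkg Cfsg.Agent.H745.TF

universe u v w

section

variable {K : Type u} [Field K] {σ : K →+* K} {U : Type v} [Group U] {T : TF σ U}

/-! ### membership of the root elements -/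

theorem x1_A (t : K) : T.x1 t ∈ T.QA := by
  unfold TF.QA
  iterate 6 refine Subgroup.mem_sup_left ?_
  exact Subgroup.subset_closure ⟨t, rfl⟩

theorem x2_A (p u : K) : T.x2 p u ∈ T.QA := by
  unfold TF.QA
  iterate 5 refine Subgroup.mem_sup_left ?_
  exact Subgroup.mem_sup_right (Subgroup.subset_closure ⟨p, u, rfl⟩)

theorem x3_A (t : K) : T.x3 t ∈ T.QA := by
  unfold TF.QA
  iterate 4 refine Subgroup.mem_sup_left ?_
  exact Subgroup.mem_sup_right (Subgroup.subset_closure ⟨t, rfl⟩)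

theorem x4_A (p u : K) : T.x4 p u ∈ T.QA := by
  unfold TF.QA
  iterate 3 refine Subgroup.mem_sup_left ?_
  exact Subgroup.mem_sup_right (Subgroup.subset_closure ⟨p, u, rfl⟩)

theorem x5_A (t : K) : T.x5 t ∈ T.QA := by
  unfold TF.QA
  iterate 2 refine Subgroup.mem_sup_left ?_
  exact Subgroup.mem_sup_right (Subgroup.subset_closure ⟨t, rfl⟩)

theorem x6_A (p u : K) : T.x6 p u ∈ T.QA := by
  unfold TF.QA
  refine Subgroup.mem_sup_left ?_
  exact Subgroup.mem_sup_right (Subgroup.subset_closure ⟨p, u, rfl⟩)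

theorem x7_A (t : K) : T.x7 t ∈ T.QA := by
  unfold TF.QA
  exact Subgroup.mem_sup_right (Subgroup.subset_closure ⟨t, rfl⟩)

theorem x2_B (p u : K) : T.x2 p u ∈ T.QB := by
  unfold TF.QB
  iterate 6 refine Subgroup.mem_sup_left ?_
  exact Subgroup.subset_closure ⟨p, u, rfl⟩

theorem x3_B (t : K) : T.x3 t ∈ T.QB := by
  unfold TF.QB
  iterate 5 refine Subgroup.mem_sup_left ?_
  exact Subgroup.mem_sup_right (Subgroup.subset_closure ⟨t, rfl⟩)

theorem x4_B (p u : K) : T.x4 p u ∈ T.QB := by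
  unfold TF.QB
  iterate 4 refine Subgroup.mem_sup_left ?_
  exact Subgroup.mem_sup_right (Subgroup.subset_closure ⟨p, u, rfl⟩)

theorem x5_B (t : K) : T.x5 t ∈ T.QB := by
  unfold TF.QB
  iterate 3 refine Subgroup.mem_sup_left ?_
  exact Subgroup.mem_sup_right (Subgroup.subset_closure ⟨t, rfl⟩)

theorem x6_B (p u : K) : T.x6 p u ∈ T.QB := by
  unfold TF.QB
  iterate 2 refine Subgroup.mem_sup_left ?_
  exact Subgroup.mem_sup_right (Subgroup.subset_closure ⟨p, u, rfl⟩)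

theorem x7_B (t : K) : T.x7 t ∈ T.QB := by
  unfold TF.QB
  refine Subgroup.mem_sup_left ?_
  exact Subgroup.mem_sup_right (Subgroup.subset_closure ⟨t, rfl⟩)

theorem x8_B (p u : K) : T.x8 p u ∈ T.QB := by
  unfold TF.QB
  exact Subgroup.mem_sup_right (Subgroup.subset_closure ⟨p, u, rfl⟩)

/-- the projection -/
structure Pi (T : TF σ U) (π : U →* H3 K) : Prop where
  e1 : ∀ t, π (T.x1 t) = ⟨t, 0, 0⟩
  e2 : ∀ p u, π (T.x2 p u) = ⟨0, p, 0⟩
  e3 : ∀ t, π (T.x3 t) = 1
  e4 : ∀ p u, π (T.x4 p u) = 1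
  e5 : ∀ t, π (T.x5 t) = 1
  e6 : ∀ p u, π (T.x6 p u) = 1
  e7 : ∀ t, π (T.x7 t) = 1
  e8 : ∀ p u, π (T.x8 p u) = ⟨0, 0, p⟩

theorem exists_Pi (T : TF σ U) (h2 : (2 : K) = 0) : ∃ π : U →* H3 K, Pi T π := by
  obtain ⟨π, h1, h2, h3, h4, h5, h6, h7, h8⟩ := exists_pi T h2
  exact ⟨π, h1, h2, h3, h4, h5, h6, h7, h8⟩

namespace Pi

variable {π : U →* H3 K} (P : Pi T π)
include P

theorem el_t (c : Cd K) : (π (T.el c)).t = c.a1 := by
  simp [TF.el, P.e1, P.e2, P.e3, P.e4, P.e5, P.e6, P.e7, P.e8]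

theorem el_p (c : Cd K) : (π (T.el c)).p = c.a2 := by
  simp [TF.el, P.e1, P.e2, P.e3, P.e4, P.e5, P.e6, P.e7, P.e8]

theorem el_q (c : Cd K) : (π (T.el c)).q = c.a8 := by
  simp [TF.el, P.e1, P.e2, P.e3, P.e4, P.e5, P.e6, P.e7, P.e8]

theorem A_q {g : U} (hg : g ∈ T.QA) : (π g).q = 0 := by
  let M : Subgroup U :=
    { carrier := {g | (π g).q = 0}
      mul_mem' := fun {a b} ha hb => by
        change (π (a * b)).q = 0
        rw [map_mul, H3.mul_q, ha, hb, add_zero]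
      one_mem' := by
        change (π 1).q = 0
        rw [map_one, H3.one_q]
      inv_mem' := fun {a} ha => by
        change (π a⁻¹).q = 0
        rw [map_inv, H3.inv_q, ha, neg_zero] }
  have h : T.QA ≤ M := by
    unfold TF.QA TF.X1 TF.X2 TF.X3 TF.X4 TF.X5 TF.X6 TF.X7
    refine sup_le (sup_le (sup_le (sup_le (sup_le (sup_le ?_ ?_) ?_) ?_) ?_) ?_) ?_ <;>
      rw [Subgroup.closure_le]
    · rintro _ ⟨t, rfl⟩
      change (π _).q = 0
      rw [P.e1]
    · rintro _ ⟨p, u, rfl⟩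
      change (π _).q = 0
      rw [P.e2]
    · rintro _ ⟨t, rfl⟩
      change (π _).q = 0
      rw [P.e3, H3.one_q]
    · rintro _ ⟨p, u, rfl⟩
      change (π _).q = 0
      rw [P.e4, H3.one_q]
    · rintro _ ⟨t, rfl⟩
      change (π _).q = 0
      rw [P.e5, H3.one_q]
    · rintro _ ⟨p, u, rfl⟩
      change (π _).q = 0
      rw [P.e6, H3.one_q]
    · rintro _ ⟨t, rfl⟩
      change (π _).q = 0
      rw [P.e7, H3.one_q]
  exact h hg

theorem B_t {g : U} (hg : g ∈ T.QB) : (π g).t = 0 := by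
  let M : Subgroup U :=
    { carrier := {g | (π g).t = 0}
      mul_mem' := fun {a b} ha hb => by
        change (π (a * b)).t = 0
        rw [map_mul, H3.mul_t, ha, hb, add_zero]
      one_mem' := by
        change (π 1).t = 0
        rw [map_one, H3.one_t]
      inv_mem' := fun {a} ha => by
        change (π a⁻¹).t = 0
        rw [map_inv, H3.inv_t, ha, neg_zero] }
  have h : T.QB ≤ M := by
    unfold TF.QB TF.X2 TF.X3 TF.X4 TF.X5 TF.X6 TF.X7 TF.X8
    refine sup_le (sup_le (sup_le (sup_le (sup_le (sup_le ?_ ?_) ?_) ?_) ?_) ?_) ?_ <;>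
      rw [Subgroup.closure_le]
    · rintro _ ⟨p, u, rfl⟩
      change (π _).t = 0
      rw [P.e2]
    · rintro _ ⟨t, rfl⟩
      change (π _).t = 0
      rw [P.e3, H3.one_t]
    · rintro _ ⟨p, u, rfl⟩
      change (π _).t = 0
      rw [P.e4, H3.one_t]
    · rintro _ ⟨t, rfl⟩
      change (π _).t = 0
      rw [P.e5, H3.one_t]
    · rintro _ ⟨p, u, rfl⟩
      change (π _).t = 0
      rw [P.e6, H3.one_t]
    · rintro _ ⟨t, rfl⟩
      change (π _).t = 0
      rw [P.e7, H3.one_t]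
    · rintro _ ⟨p, u, rfl⟩
      change (π _).t = 0
      rw [P.e8]
  exact h hg

end Pi

/-! ### an automorphism preserving `QA` and `QB` -/

/-- the hypotheses on the automorphism -/
structure Pr (T : TF σ U) (α : MulAut U) : Prop where
  A : ∀ g ∈ T.QA, α g ∈ T.QA
  B : ∀ g ∈ T.QB, α g ∈ T.QB

/-- squares of `X8` give `Z8` -/
theorem exists_sq [Finite K] (h2 : (2 : K) = 0) (hs : ∀ x, σ (σ x) = x ^ 2) (u : K) : ∃ r : K, r * σ r = u := by
  by_cases hu : u = 0
  · exact ⟨0, by rw [hu, zero_mul]⟩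
  have hinj : Function.Injective (fun x : Kˣ => x * Units.map (σ : K →* K) x) := by
    intro x y hxy
    let f : Kˣ →* Kˣ := MonoidHom.id Kˣ * Units.map (σ : K →* K)
    have hf : Function.Injective f := by
      rw [injective_iff_map_eq_one]
      intro z hz
      have h1 : (z : K) * σ z = 1 := by
        have := congrArg (Units.val) hz
        exact this
      have h3 : σ (z : K) * (z : K) ^ 2 = 1 := by
        have := congrArg σ h1
        rwa [map_mul, map_one, hs] at this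
      have h4 : (z : K) = 1 := by
        have h5 : (z : K) * ((z : K) * σ z) = 1 := by
          rw [← h3]; ring
        rwa [h1, mul_one] at h5
      exact Units.ext h4
    exact hf hxy
  have hsurj := Finite.surjective_of_injective hinj
  obtain ⟨r, hr⟩ := hsurj (Units.mk0 u hu)
  exact ⟨r, congrArg Units.val hr⟩

theorem x8_sq (h2 : (2 : K) = 0) (r : K) : T.x8 r 0 * T.x8 r 0 = T.x8 0 (r * σ r) := by
  rw [T.rel.m8]
  congr 1
  · linear_combination r * h2
  · ring

theorem add_self' (h2 : (2 : K) = 0) (x : K) : x + x = 0 := by linear_combination x * h2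

section auto

variable [Finite K] (h2 : (2 : K) = 0) (hs : ∀ x, σ (σ x) = x ^ 2) {π : U →* H3 K} (P : Pi T π) {α : MulAut U}
  (hα : Pr T α)
include h2 P hα

theorem im0 {w : U} (hA : w ∈ T.QA) (hB : w ∈ T.QB) : π (α w) = ⟨0, (π (α w)).p, 0⟩ :=
  H3.ext (P.B_t (hα.B w hB)) rfl (P.A_q (hα.A w hA))

theorem ce : Ce T (π.comp α.toMonoidHom) := by
  have hc : ∀ {w : U}, w ∈ T.QA → w ∈ T.QB → ∀ g, π (α w) * π (α g) = π (α g) * π (α w) := by
    intro w hA hB g
    rw [im0 h2 P hα hA hB]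
    ext <;> simp [add_comm]
  have hq : ∀ {w : U}, w ∈ T.QA → w ∈ T.QB → π (α w) * π (α w) = 1 := by
    intro w hA hB
    rw [im0 h2 P hα hA hB]
    ext
    · simp
    · simp only [H3.mul_p, zero_mul, add_zero, H3.one_p]
      exact add_self' h2 _
    · simp
  exact
    { c2 := fun p u g => hc (x2_A p u) (x2_B p u) g
      c4 := fun p u g => hc (x4_A p u) (x4_B p u) g
      c6 := fun p u g => hc (x6_A p u) (x6_B p u) g
      s4 := fun p u => hq (x4_A p u) (x4_B p u)
      s6 := fun p u => hq (x6_A p u) (x6_B p u) }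

/-- the action on `X1` -/
theorem act_t (x : U) : (π (α x)).t = (π (α (T.x1 (π x).t))).t := by
  obtain ⟨c, rfl⟩ := T.bij.2 x
  change (π (α (T.el c))).t = (π (α (T.x1 (π (T.el c)).t))).t
  rw [P.el_t]
  unfold TF.el
  simp only [map_mul, H3.mul_t]
  rw [P.B_t (hα.B _ (x2_B _ _)), P.B_t (hα.B _ (x3_B _)), P.B_t (hα.B _ (x4_B _ _)), P.B_t (hα.B _ (x5_B _)),
    P.B_t (hα.B _ (x6_B _ _)), P.B_t (hα.B _ (x7_B _)), P.B_t (hα.B _ (x8_B _ _))]
  simp only [add_zero]

include hs in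
/-- the action on `X8 / Z8` -/
theorem act_q (x : U) : (π (α x)).q = (π (α (T.x8 (π x).q 0))).q := by
  obtain ⟨c, rfl⟩ := T.bij.2 x
  change (π (α (T.el c))).q = (π (α (T.x8 (π (T.el c)).q 0))).q
  rw [P.el_q]
  unfold TF.el
  rw [split8 T c.a8 c.b8]
  simp only [map_mul, H3.mul_q]
  have h8 : (π (α (T.x8 0 c.b8))).q = 0 := by
    obtain ⟨r, hr⟩ := exists_sq h2 hs c.b8
    rw [← hr, ← x8_sq h2, map_mul, map_mul, H3.mul_q]
    exact add_self' h2 _
  rw [P.A_q (hα.A _ (x1_A _)), P.A_q (hα.A _ (x2_A _ _)), P.A_q (hα.A _ (x3_A _)), P.A_q (hα.A _ (x4_A _ _)),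
    P.A_q (hα.A _ (x5_A _)), P.A_q (hα.A _ (x6_A _ _)), P.A_q (hα.A _ (x7_A _)), h8]
  simp only [add_zero, zero_add]

theorem exists_f_ne : ∃ t, (π (α (T.x1 t))).t ≠ 0 := by
  refine ⟨(π (α⁻¹ (T.x1 1))).t, ?_⟩
  rw [← act_t h2 P hα, MulAut.apply_inv_self, P.e1]
  exact one_ne_zero

include hs in
theorem exists_g_ne : ∃ s, (π (α (T.x8 s 0))).q ≠ 0 := by
  refine ⟨(π (α⁻¹ (T.x8 1 0))).q, ?_⟩
  rw [← act_q h2 hs P hα, MulAut.apply_inv_self, P.e8]
  exact one_ne_zero

include hs in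
/-- `k (t s) = f t g s` -/
theorem kfg {r : K} (hr : r ^ 2 + r ≠ 0) (t s : K) :
    (π (α (T.x2 (t * s) 0))).p = (π (α (T.x1 t))).t * (π (α (T.x8 s 0))).q := by
  have h1 := congrArg H3.p ((ce h2 P hα).comm18 hs hr t s 0)
  have e1 : (π (α (T.x1 t))).q = 0 := P.A_q (hα.A _ (x1_A _))
  have e8 : (π (α (T.x8 s 0))).t = 0 := P.B_t (hα.B _ (x8_B _ _))
  have e2 : (π (α (T.x2 (t * s) 0))).t = 0 := P.B_t (hα.B _ (x2_B _ _))
  change (π (α (T.x1 t)) * π (α (T.x8 s 0))).p = (π (α (T.x8 s 0)) * π (α (T.x1 t)) * π (α (T.x2 (t * s) 0))).p at h1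
  simp only [H3.mul_p, H3.mul_q, e1, e8, e2, mul_zero, add_zero] at h1
  linear_combination (-1 : K) * h1 - ((π (α (T.x1 t))).t * (π (α (T.x8 s 0))).q) * h2

include hs in
/-- **Autotopism.** -/
theorem autotopism {r : K} (hr : r ^ 2 + r ≠ 0) : ∃ (f g : K) (τ : K ≃+* K), f ≠ 0 ∧ g ≠ 0 ∧
    (∀ x, (π (α x)).t = f * τ (π x).t) ∧ (∀ x, (π (α x)).q = g * τ (π x).q) := by
  set f : K → K := fun t => (π (α (T.x1 t))).t with hf
  set g : K → K := fun s => (π (α (T.x8 s 0))).q with hg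
  set k : K → K := fun p => (π (α (T.x2 p 0))).p with hk
  have hkfg : ∀ t s, k (t * s) = f t * g s := fun t s => kfg h2 hs P hα hr t s
  obtain ⟨t0, ht0⟩ := exists_f_ne h2 P hα
  obtain ⟨s0, hs0⟩ := exists_g_ne h2 hs P hα
  have hf1 : f 1 ≠ 0 := by
    intro h0
    have h3 : ∀ s, k s = 0 := fun s => by
      have := hkfg 1 s
      rwa [one_mul, h0, zero_mul] at this
    have h4 := hkfg t0 s0
    rw [h3] at h4
    exact mul_ne_zero ht0 hs0 h4.symm
  have hg1 : g 1 ≠ 0 := by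
    intro h0
    have h3 : ∀ s, k s = 0 := fun s => by
      have := hkfg s 1
      rwa [mul_one, h0, mul_zero] at this
    have h4 := hkfg t0 s0
    rw [h3] at h4
    exact mul_ne_zero ht0 hs0 h4.symm
  have hk1 : k 1 = f 1 * g 1 := by
    have := hkfg 1 1
    rwa [one_mul] at this
  have hk1' : k 1 ≠ 0 := by rw [hk1]; exact mul_ne_zero hf1 hg1
  have hkadd : ∀ a b, k (a + b) = k a + k b := by
    intro a b
    have h3 := congrArg H3.p ((ce h2 P hα).add2 a b)
    have e2 : (π (α (T.x2 b 0))).t = 0 := P.B_t (hα.B _ (x2_B _ _))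
    change (π (α (T.x2 (a + b) 0))).p = (π (α (T.x2 a 0)) * π (α (T.x2 b 0))).p at h3
    rw [H3.mul_p, e2, mul_zero, add_zero] at h3
    exact h3
  have hkf : ∀ t, k t = f t * g 1 := fun t => by
    have := hkfg t 1
    rwa [mul_one] at this
  have hkg : ∀ s, k s = f 1 * g s := fun s => by
    have := hkfg 1 s
    rwa [one_mul] at this
  let τ₀ : K →+* K :=
    { toFun := fun x => k x / k 1
      map_one' := div_self hk1'
      map_zero' := by
        have h3 := hkadd 0 0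
        rw [add_zero] at h3
        have h4 : k 0 = 0 := by linear_combination -h3
        change k 0 / k 1 = 0
        rw [h4, zero_div]
      map_mul' := fun x y => by
        change k (x * y) / k 1 = k x / k 1 * (k y / k 1)
        rw [div_mul_div_comm, div_eq_div_iff hk1' (mul_ne_zero hk1' hk1'), hkfg x y, hkf x, hkg y, hk1]
        ring
      map_add' := fun x y => by
        change k (x + y) / k 1 = k x / k 1 + k y / k 1
        rw [hkadd, add_div] }
  have hbij : Function.Bijective τ₀ := Finite.injective_iff_bijective.1 τ₀.injective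
  let τ : K ≃+* K := RingEquiv.ofBijective τ₀ hbij
  have hτ : ∀ x, τ x = k x / k 1 := fun x => rfl
  refine ⟨f 1, g 1, τ, hf1, hg1, fun x => ?_, fun x => ?_⟩
  · rw [act_t h2 P hα x, hτ, hkf, hk1]
    change f (π x).t = _
    field_simp
  · rw [act_q h2 hs P hα x, hτ, hkg, hk1]
    change g (π x).q = _
    field_simp

end auto

end

end Cfsg.Agent.H659.TF
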