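import Cfsg.Agent.H659.TF.PosA
import Cfsg.Agent.H805.TF.Tor

/-!
# S5262: automorphisms of `QA` and of `QB` commuting with the torus come from the torus (`q ≥ 8`) (helper659)

* `fix1` … `fix8` : `X_i` is the set of the fixed points in `U` of an element of the torus;
* `ch1` … `ch8` : the torus acts on `X_i` by all scalars;
* `odd_abs`, `even_abs` : scalar form of a map commuting with the torus;
* `rigidA`, `rigidB`.
-/

set_option autoImplicit false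

namespace Cfsg.Agent.H659.TF

open Cfsg.Agent.Octagon.Pkg Cfsg.Agent.H745.TF Cfsg.Agent.H805.TF

universe u v w

/-! ### the field -/

section field

variable {K : Type u} [Field K] {σ : K →+* K}

theorem sq_one (h2 : (2 : K) = 0) {x : K} (h : x ^ 2 = 1) : x = 1 := by
  have h1 : (x - 1) ^ 2 = 0 := by linear_combination h - (x - 1) * h2
  have h3 : x - 1 = 0 := by
    rcases pow_eq_zero_iff (two_ne_zero) |>.1 h1 with h4
    exact h4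
  linear_combination h3

theorem nsig (hs : ∀ x, σ (σ x) = x ^ 2) {x : K} (h : x * σ x = 1) : x = 1 := by
  have h3 : σ x * x ^ 2 = 1 := by
    have := congrArg σ h
    rwa [map_mul, map_one, hs] at this
  have h5 : x * (x * σ x) = 1 := by
    rw [← h3]; ring
  rwa [h, mul_one] at h5

theorem nsig2 (h2 : (2 : K) = 0) (hs : ∀ x, σ (σ x) = x ^ 2) {x : K} (h : x ^ 2 * σ x = 1) : x = 1 := by
  have h3 := congrArg σ h
  rw [map_mul, map_pow, map_one, hs] at h3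
  apply nsig hs
  apply sq_one h2
  linear_combination h3

/-- the conditions on a parameter -/
structure Nt (σ : K →+* K) (y : K) : Prop where
  n0 : y ≠ 0
  n1 : y ≠ 1
  n2 : σ y ≠ 1
  n3 : y * σ y ≠ 1
  n4 : y ^ 2 * σ y ≠ 1
  n5 : (y * σ y) ^ 2 ≠ 1
  n6 : y ^ 2 ≠ 1
  n7 : σ y ≠ y

theorem exists_nt {m : ℕ} (hK : HypK σ m) (hm : 1 ≤ m) : ∃ y : K, Nt σ y := by
  haveI := hK.fin
  classical
  haveI := Fintype.ofFinite K
  have hs := hK.sq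
  have h2 := hK.two
  obtain ⟨y, hy0, hy1⟩ : ∃ y : K, y ≠ 0 ∧ y ≠ 1 := by
    by_contra hcon
    push Not at hcon
    have h3 : (Finset.univ : Finset K) ⊆ {0, 1} := by
      intro x _
      by_cases hx : x = 0
      · simp [hx]
      · simp [hcon x hx]
    have h4 := Finset.card_le_card h3
    have h5 : ({0, 1} : Finset K).card ≤ 2 := Finset.card_le_two
    rw [Finset.card_univ, ← Nat.card_eq_fintype_card, hK.card] at h4
    have h6 : 2 ^ 3 ≤ 2 ^ (2 * m + 1) := Nat.pow_le_pow_right (by norm_num) (by omega)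
    omega
  refine ⟨y, hy0, hy1, ?_, ?_, ?_, ?_, ?_, ?_⟩
  · intro h
    exact hy1 (σ.injective (h.trans (map_one σ).symm))
  · exact fun h => hy1 (nsig hs h)
  · exact fun h => hy1 (nsig2 h2 hs h)
  · exact fun h => hy1 (nsig hs (sq_one h2 h))
  · exact fun h => hy1 (sq_one h2 h)
  · intro h
    have h3 := hs y
    rw [h, h] at h3
    apply hy1
    have h4 : y * (y - 1) = 0 := by linear_combination -h3
    rcases mul_eq_zero.1 h4 with h5 | h5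
    · exact absurd h5 hy0
    · linear_combination h5

end field

section

variable {K : Type u} [Field K] {σ : K →+* K} {U : Type v} [Group U] {T : TF σ U}

/-! ### the root elements are injective -/

theorem el_inj {c d : Cd K} (h : T.el c = T.el d) : c = d := T.bij.1 h

theorem el1 (T : TF σ U) (t : K) : T.x1 t = T.el ⟨t, 0, 0, 0, 0, 0, 0, 0, 0, 0, 0, 0⟩ := by
  simp [TF.el, x1_zero T.rel, x2_zero T.rel, x3_zero T.rel, x4_zero T.rel, x5_zero T.rel, x6_zero T.rel, x7_zero T.rel,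
    x8_zero T.rel]
theorem el2 (T : TF σ U) (p u : K) : T.x2 p u = T.el ⟨0, p, u, 0, 0, 0, 0, 0, 0, 0, 0, 0⟩ := by
  simp [TF.el, x1_zero T.rel, x2_zero T.rel, x3_zero T.rel, x4_zero T.rel, x5_zero T.rel, x6_zero T.rel, x7_zero T.rel,
    x8_zero T.rel]
theorem el3 (T : TF σ U) (t : K) : T.x3 t = T.el ⟨0, 0, 0, t, 0, 0, 0, 0, 0, 0, 0, 0⟩ := by
  simp [TF.el, x1_zero T.rel, x2_zero T.rel, x3_zero T.rel, x4_zero T.rel, x5_zero T.rel, x6_zero T.rel, x7_zero T.rel,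
    x8_zero T.rel]
theorem el4 (T : TF σ U) (p u : K) : T.x4 p u = T.el ⟨0, 0, 0, 0, p, u, 0, 0, 0, 0, 0, 0⟩ := by
  simp [TF.el, x1_zero T.rel, x2_zero T.rel, x3_zero T.rel, x4_zero T.rel, x5_zero T.rel, x6_zero T.rel, x7_zero T.rel,
    x8_zero T.rel]
theorem el5 (T : TF σ U) (t : K) : T.x5 t = T.el ⟨0, 0, 0, 0, 0, 0, t, 0, 0, 0, 0, 0⟩ := by
  simp [TF.el, x1_zero T.rel, x2_zero T.rel, x3_zero T.rel, x4_zero T.rel, x5_zero T.rel, x6_zero T.rel, x7_zero T.rel,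
    x8_zero T.rel]
theorem el6 (T : TF σ U) (p u : K) : T.x6 p u = T.el ⟨0, 0, 0, 0, 0, 0, 0, p, u, 0, 0, 0⟩ := by
  simp [TF.el, x1_zero T.rel, x2_zero T.rel, x3_zero T.rel, x4_zero T.rel, x5_zero T.rel, x6_zero T.rel, x7_zero T.rel,
    x8_zero T.rel]
theorem el7 (T : TF σ U) (t : K) : T.x7 t = T.el ⟨0, 0, 0, 0, 0, 0, 0, 0, 0, t, 0, 0⟩ := by
  simp [TF.el, x1_zero T.rel, x2_zero T.rel, x3_zero T.rel, x4_zero T.rel, x5_zero T.rel, x6_zero T.rel, x7_zero T.rel,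
    x8_zero T.rel]
theorem el8 (T : TF σ U) (p u : K) : T.x8 p u = T.el ⟨0, 0, 0, 0, 0, 0, 0, 0, 0, 0, p, u⟩ := by
  simp [TF.el, x1_zero T.rel, x2_zero T.rel, x3_zero T.rel, x4_zero T.rel, x5_zero T.rel, x6_zero T.rel, x7_zero T.rel,
    x8_zero T.rel]

theorem inj1 {s t : K} (h : T.x1 s = T.x1 t) : s = t := by
  rw [el1, el1] at h; exact congrArg Cd.a1 (el_inj h)
theorem inj3 {s t : K} (h : T.x3 s = T.x3 t) : s = t := by
  rw [el3, el3] at h; exact congrArg Cd.a3 (el_inj h)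
theorem inj5 {s t : K} (h : T.x5 s = T.x5 t) : s = t := by
  rw [el5, el5] at h; exact congrArg Cd.a5 (el_inj h)
theorem inj7 {s t : K} (h : T.x7 s = T.x7 t) : s = t := by
  rw [el7, el7] at h; exact congrArg Cd.a7 (el_inj h)
theorem inj2 {p u q v : K} (h : T.x2 p u = T.x2 q v) : p = q ∧ u = v := by
  rw [el2, el2] at h; exact ⟨congrArg Cd.a2 (el_inj h), congrArg Cd.b2 (el_inj h)⟩
theorem inj4 {p u q v : K} (h : T.x4 p u = T.x4 q v) : p = q ∧ u = v := by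
  rw [el4, el4] at h; exact ⟨congrArg Cd.a4 (el_inj h), congrArg Cd.b4 (el_inj h)⟩
theorem inj6 {p u q v : K} (h : T.x6 p u = T.x6 q v) : p = q ∧ u = v := by
  rw [el6, el6] at h; exact ⟨congrArg Cd.a6 (el_inj h), congrArg Cd.b6 (el_inj h)⟩
theorem inj8 {p u q v : K} (h : T.x8 p u = T.x8 q v) : p = q ∧ u = v := by
  rw [el8, el8] at h; exact ⟨congrArg Cd.a8 (el_inj h), congrArg Cd.b8 (el_inj h)⟩

/-! ### fixed points -/

/-- a fixed element has fixed coordinates -/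
theorem fix_eqs {α : MulAut U} {f g : K} (hα : T.IsTor α f g (RingEquiv.refl K)) {c : Cd K} (h : α (T.el c) = T.el c) :
    f * c.a1 = c.a1 ∧ f * g * c.a2 = c.a2 ∧ f * g * σ (f * g) * c.b2 = c.b2 ∧ f * g * σ (f * g) * g * c.a3 = c.a3 ∧
    σ (f * g) * g * c.a4 = c.a4 ∧ σ (f * g) * g * σ (σ (f * g) * g) * c.b4 = c.b4 ∧
    f * σ f * g ^ 2 * σ g ^ 2 * c.a5 = c.a5 ∧ f * g * σ g * c.a6 = c.a6 ∧
    f * g * σ g * σ (f * g * σ g) * c.b6 = c.b6 ∧ f * g ^ 2 * σ g * c.a7 = c.a7 ∧ g * c.a8 = c.a8 ∧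
    g * σ g * c.b8 = c.b8 := by
  have h1 : α (T.el c) = T.el ⟨f * c.a1, f * g * c.a2, f * g * σ (f * g) * c.b2, f * g * σ (f * g) * g * c.a3,
      σ (f * g) * g * c.a4, σ (f * g) * g * σ (σ (f * g) * g) * c.b4, f * σ f * g ^ 2 * σ g ^ 2 * c.a5,
      f * g * σ g * c.a6, f * g * σ g * σ (f * g * σ g) * c.b6, f * g ^ 2 * σ g * c.a7, g * c.a8, g * σ g * c.b8⟩ := by
    unfold TF.el
    simp only [map_mul α, hα.e1, hα.e2, hα.e3, hα.e4, hα.e5, hα.e6, hα.e7, hα.e8, RingEquiv.refl_apply]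
  rw [h] at h1
  have h2 := el_inj h1
  exact ⟨(congrArg Cd.a1 h2).symm, (congrArg Cd.a2 h2).symm, (congrArg Cd.b2 h2).symm, (congrArg Cd.a3 h2).symm,
    (congrArg Cd.a4 h2).symm, (congrArg Cd.b4 h2).symm, (congrArg Cd.a5 h2).symm, (congrArg Cd.a6 h2).symm,
    (congrArg Cd.b6 h2).symm, (congrArg Cd.a7 h2).symm, (congrArg Cd.a8 h2).symm, (congrArg Cd.b8 h2).symm⟩

theorem zero_of {c a : K} (h : c * a = a) (hc : c ≠ 1) : a = 0 := by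
  by_contra ha
  exact hc (mul_right_cancel₀ ha (h.trans (one_mul a).symm))

/-- `X` consists of the fixed points of an element of the torus -/
def Fx1 (T : TF σ U) (X : K → U) : Prop :=
  ∃ (α : MulAut U) (f g : K), T.IsTor α f g (RingEquiv.refl K) ∧ (∀ t, α (X t) = X t) ∧ ∀ x, α x = x → ∃ t, x = X t

def Fx2 (T : TF σ U) (X : K → K → U) : Prop :=
  ∃ (α : MulAut U) (f g : K), T.IsTor α f g (RingEquiv.refl K) ∧ (∀ p u, α (X p u) = X p u) ∧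
    ∀ x, α x = x → ∃ p u, x = X p u

theorem fix_aux (hs : ∀ x, σ (σ x) = x ^ 2) {α : MulAut U} {f g : K} (hα : T.IsTor α f g (RingEquiv.refl K)) {c : Cd K}
    (h : α (T.el c) = T.el c) {z1 z2 z3 z4 z5 z6 z7 z8 : K} (h1 : f = z1) (h2 : f * g = z2)
    (h3 : f * g * σ (f * g) * g = z3) (h4 : σ (f * g) * g = z4) (h5 : f * σ f * g ^ 2 * σ g ^ 2 = z5)
    (h6 : f * g * σ g = z6) (h7 : f * g ^ 2 * σ g = z7) (h8 : g = z8) :
    (z1 ≠ 1 → c.a1 = 0) ∧ (z2 ≠ 1 → c.a2 = 0 ∧ c.b2 = 0) ∧ (z3 ≠ 1 → c.a3 = 0) ∧ (z4 ≠ 1 → c.a4 = 0 ∧ c.b4 = 0) ∧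
    (z5 ≠ 1 → c.a5 = 0) ∧ (z6 ≠ 1 → c.a6 = 0 ∧ c.b6 = 0) ∧ (z7 ≠ 1 → c.a7 = 0) ∧ (z8 ≠ 1 → c.a8 = 0 ∧ c.b8 = 0) := by
  obtain ⟨k1, k2, l2, k3, k4, l4, k5, k6, l6, k7, k8, l8⟩ := fix_eqs hα h
  rw [h1] at k1
  rw [h2] at k2 l2
  rw [h3] at k3
  rw [h4] at k4 l4
  rw [h5] at k5
  rw [h6] at k6 l6
  rw [h7] at k7
  rw [h8] at k8 l8
  have key : ∀ {z : K}, z ≠ 1 → z * σ z ≠ 1 := fun hz hz' => hz (nsig hs hz')
  exact ⟨zero_of k1, fun h => ⟨zero_of k2 h, zero_of l2 (key h)⟩, zero_of k3, fun h => ⟨zero_of k4 h, zero_of l4 (key h)⟩,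
    zero_of k5, fun h => ⟨zero_of k6 h, zero_of l6 (key h)⟩, zero_of k7, fun h => ⟨zero_of k8 h, zero_of l8 (key h)⟩⟩

section fix

variable {m : ℕ} (hK : HypK σ m) (hm : 1 ≤ m) (T)
include hK hm

theorem fix1 : Fx1 T T.x1 := by
  obtain ⟨y, h⟩ := exists_nt hK hm
  have hs := hK.sq
  have s0 : σ y ≠ 0 := (map_ne_zero σ).2 h.n0
  obtain ⟨α, hα⟩ := exists_tor T hK 1 y (RingEquiv.refl K) one_ne_zero h.n0
  refine ⟨α, 1, y, hα, fun t => ?_, fun x hx => ?_⟩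
  · rw [hα.e1, one_mul, RingEquiv.refl_apply]
  · obtain ⟨c, rfl⟩ := T.bij.2 x
    obtain ⟨k1, k2, k3, k4, k5, k6, k7, k8⟩ := fix_aux hs hα hx (z1 := 1) (z2 := y) (z3 := y ^ 2 * σ y) (z4 := y * σ y)
      (z5 := (y * σ y) ^ 2) (z6 := y * σ y) (z7 := y ^ 2 * σ y) (z8 := y) rfl (by ring) (by rw [one_mul]; ring)
      (by rw [one_mul]; ring) (by rw [map_one]; ring) (by ring) (by ring) rfl
    obtain ⟨c2, d2⟩ := k2 h.n1
    have c3 := k3 h.n4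
    obtain ⟨c4, d4⟩ := k4 h.n3
    have c5 := k5 h.n5
    obtain ⟨c6, d6⟩ := k6 h.n3
    have c7 := k7 h.n4
    obtain ⟨c8, d8⟩ := k8 h.n1
    refine ⟨c.a1, ?_⟩
    rw [el1]
    exact congrArg T.el (Cd.ext rfl c2 d2 c3 c4 d4 c5 c6 d6 c7 c8 d8)

theorem fix8 : Fx2 T T.x8 := by
  obtain ⟨y, h⟩ := exists_nt hK hm
  have hs := hK.sq
  have s0 : σ y ≠ 0 := (map_ne_zero σ).2 h.n0
  obtain ⟨α, hα⟩ := exists_tor T hK y 1 (RingEquiv.refl K) h.n0 one_ne_zero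
  refine ⟨α, y, 1, hα, fun p u => ?_, fun x hx => ?_⟩
  · rw [hα.e8, map_one, one_mul, one_mul, one_mul, RingEquiv.refl_apply, RingEquiv.refl_apply]
  · obtain ⟨c, rfl⟩ := T.bij.2 x
    obtain ⟨k1, k2, k3, k4, k5, k6, k7, k8⟩ := fix_aux hs hα hx (z1 := y) (z2 := y) (z3 := y * σ y) (z4 := σ y)
      (z5 := y * σ y) (z6 := y) (z7 := y) (z8 := 1) rfl (by ring) (by rw [mul_one]; ring)
      (by rw [mul_one]; ring) (by rw [map_one]; ring) (by rw [map_one]; ring) (by rw [map_one]; ring) rfl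
    have c1 := k1 h.n1
    obtain ⟨c2, d2⟩ := k2 h.n1
    have c3 := k3 h.n3
    obtain ⟨c4, d4⟩ := k4 h.n2
    have c5 := k5 h.n3
    obtain ⟨c6, d6⟩ := k6 h.n1
    have c7 := k7 h.n1
    refine ⟨c.a8, c.b8, ?_⟩
    rw [el8]
    exact congrArg T.el (Cd.ext c1 c2 d2 c3 c4 d4 c5 c6 d6 c7 rfl rfl)

theorem fix2 : Fx2 T T.x2 := by
  obtain ⟨y, h⟩ := exists_nt hK hm
  have hs := hK.sq
  have y0 := h.n0
  have s0 : σ y ≠ 0 := (map_ne_zero σ).2 h.n0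
  obtain ⟨α, hα⟩ := exists_tor T hK y⁻¹ y (RingEquiv.refl K) (inv_ne_zero h.n0) h.n0
  have e2 : y⁻¹ * y = 1 := inv_mul_cancel₀ h.n0
  refine ⟨α, y⁻¹, y, hα, fun p u => ?_, fun x hx => ?_⟩
  · rw [hα.e2, e2, map_one, one_mul, one_mul, one_mul, RingEquiv.refl_apply, RingEquiv.refl_apply]
  · obtain ⟨c, rfl⟩ := T.bij.2 x
    obtain ⟨k1, k2, k3, k4, k5, k6, k7, k8⟩ := fix_aux hs hα hx (z1 := y⁻¹) (z2 := 1) (z3 := y) (z4 := y)
      (z5 := y * σ y) (z6 := σ y) (z7 := y * σ y) (z8 := y) rfl e2 (by rw [e2, map_one]; ring)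
      (by rw [e2, map_one]; ring) (by rw [map_inv₀]; field_simp) (by rw [e2, one_mul])
      (by rw [pow_two, ← mul_assoc, e2, one_mul]) rfl
    have c1 := k1 (inv_ne_one.2 h.n1)
    have c3 := k3 h.n1
    obtain ⟨c4, d4⟩ := k4 h.n1
    have c5 := k5 h.n3
    obtain ⟨c6, d6⟩ := k6 h.n2
    have c7 := k7 h.n3
    obtain ⟨c8, d8⟩ := k8 h.n1
    refine ⟨c.a2, c.b2, ?_⟩
    rw [el2]
    exact congrArg T.el (Cd.ext c1 rfl rfl c3 c4 d4 c5 c6 d6 c7 c8 d8)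

theorem fix3 : Fx1 T T.x3 := by
  obtain ⟨y, h⟩ := exists_nt hK hm
  have hs := hK.sq
  have y0 := h.n0
  have s0 : σ y ≠ 0 := (map_ne_zero σ).2 h.n0
  obtain ⟨α, hα⟩ := exists_tor T hK (y ^ 2 * σ y) (y * σ y)⁻¹ (RingEquiv.refl K) (mul_ne_zero (pow_ne_zero 2 y0) s0)
    (inv_ne_zero (mul_ne_zero y0 s0))
  have e2 : y ^ 2 * σ y * (y * σ y)⁻¹ = y := by field_simp
  have sg : σ (y * σ y)⁻¹ = (σ y * y ^ 2)⁻¹ := by rw [map_inv₀, map_mul, hs]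
  have e3 : y ^ 2 * σ y * (y * σ y)⁻¹ * σ (y ^ 2 * σ y * (y * σ y)⁻¹) * (y * σ y)⁻¹ = 1 := by
    rw [e2]; field_simp
  refine ⟨α, y ^ 2 * σ y, (y * σ y)⁻¹, hα, fun t => ?_, fun x hx => ?_⟩
  · rw [hα.e3, e3, one_mul, RingEquiv.refl_apply]
  · obtain ⟨c, rfl⟩ := T.bij.2 x
    obtain ⟨k1, k2, k3, k4, k5, k6, k7, k8⟩ := fix_aux hs hα hx (z1 := y ^ 2 * σ y) (z2 := y) (z3 := 1) (z4 := y⁻¹)
      (z5 := (y ^ 2 * σ y)⁻¹) (z6 := (y * σ y)⁻¹) (z7 := ((y * σ y) ^ 2)⁻¹) (z8 := (y * σ y)⁻¹) rfl e2 e3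
      (by rw [e2]; field_simp) (by rw [sg, map_mul, map_pow, hs]; field_simp) (by rw [e2, sg]; field_simp)
      (by rw [sg]; field_simp) rfl
    have c1 := k1 h.n4
    obtain ⟨c2, d2⟩ := k2 h.n1
    obtain ⟨c4, d4⟩ := k4 (inv_ne_one.2 h.n1)
    have c5 := k5 (inv_ne_one.2 h.n4)
    obtain ⟨c6, d6⟩ := k6 (inv_ne_one.2 h.n3)
    have c7 := k7 (inv_ne_one.2 h.n5)
    obtain ⟨c8, d8⟩ := k8 (inv_ne_one.2 h.n3)
    refine ⟨c.a3, ?_⟩
    rw [el3]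
    exact congrArg T.el (Cd.ext c1 c2 d2 rfl c4 d4 c5 c6 d6 c7 c8 d8)

theorem fix4 : Fx2 T T.x4 := by
  obtain ⟨y, h⟩ := exists_nt hK hm
  have hs := hK.sq
  have y0 := h.n0
  have s0 : σ y ≠ 0 := (map_ne_zero σ).2 h.n0
  obtain ⟨α, hα⟩ := exists_tor T hK (y * σ y) (σ y)⁻¹ (RingEquiv.refl K) (mul_ne_zero y0 s0) (inv_ne_zero s0)
  have e2 : y * σ y * (σ y)⁻¹ = y := by field_simp
  have sg : σ (σ y)⁻¹ = (y ^ 2)⁻¹ := by rw [map_inv₀, hs]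
  have e4 : σ (y * σ y * (σ y)⁻¹) * (σ y)⁻¹ = 1 := by
    rw [e2]; field_simp
  refine ⟨α, y * σ y, (σ y)⁻¹, hα, fun p u => ?_, fun x hx => ?_⟩
  · rw [hα.e4, e4, map_one, one_mul, one_mul, one_mul, RingEquiv.refl_apply, RingEquiv.refl_apply]
  · obtain ⟨c, rfl⟩ := T.bij.2 x
    obtain ⟨k1, k2, k3, k4, k5, k6, k7, k8⟩ := fix_aux hs hα hx (z1 := y * σ y) (z2 := y) (z3 := y) (z4 := 1)
      (z5 := y⁻¹) (z6 := y⁻¹) (z7 := (y * σ y)⁻¹) (z8 := (σ y)⁻¹) rfl e2 (by rw [e2]; field_simp) e4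
      (by rw [sg, map_mul, hs]; field_simp) (by rw [e2, sg]; field_simp)
      (by rw [sg]; field_simp) rfl
    have c1 := k1 h.n3
    obtain ⟨c2, d2⟩ := k2 h.n1
    have c3 := k3 h.n1
    have c5 := k5 (inv_ne_one.2 h.n1)
    obtain ⟨c6, d6⟩ := k6 (inv_ne_one.2 h.n1)
    have c7 := k7 (inv_ne_one.2 h.n3)
    obtain ⟨c8, d8⟩ := k8 (inv_ne_one.2 h.n2)
    refine ⟨c.a4, c.b4, ?_⟩
    rw [el4]
    exact congrArg T.el (Cd.ext c1 c2 d2 c3 rfl rfl c5 c6 d6 c7 c8 d8)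

theorem fix5 : Fx1 T T.x5 := by
  obtain ⟨y, h⟩ := exists_nt hK hm
  have hs := hK.sq
  have y0 := h.n0
  have s0 : σ y ≠ 0 := (map_ne_zero σ).2 h.n0
  obtain ⟨α, hα⟩ := exists_tor T hK (y ^ 2)⁻¹ y (RingEquiv.refl K) (inv_ne_zero (pow_ne_zero 2 y0)) y0
  have e2 : (y ^ 2)⁻¹ * y = y⁻¹ := by field_simp
  have sf : σ (y ^ 2)⁻¹ = (σ y ^ 2)⁻¹ := by rw [map_inv₀, map_pow]
  have e5 : (y ^ 2)⁻¹ * σ (y ^ 2)⁻¹ * y ^ 2 * σ y ^ 2 = 1 := by
    rw [sf]; field_simp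
  refine ⟨α, (y ^ 2)⁻¹, y, hα, fun t => ?_, fun x hx => ?_⟩
  · rw [hα.e5, e5, one_mul, RingEquiv.refl_apply]
  · obtain ⟨c, rfl⟩ := T.bij.2 x
    obtain ⟨k1, k2, k3, k4, k5, k6, k7, k8⟩ := fix_aux hs hα hx (z1 := (y ^ 2)⁻¹) (z2 := y⁻¹) (z3 := (σ y)⁻¹)
      (z4 := y * (σ y)⁻¹) (z5 := 1) (z6 := y⁻¹ * σ y) (z7 := σ y) (z8 := y) rfl e2
      (by rw [e2, map_inv₀]; field_simp) (by rw [e2, map_inv₀]; ring) e5 (by rw [e2])
      (by field_simp) rfl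
    have c1 := k1 (inv_ne_one.2 h.n6)
    obtain ⟨c2, d2⟩ := k2 (inv_ne_one.2 h.n1)
    have c3 := k3 (inv_ne_one.2 h.n2)
    obtain ⟨c4, d4⟩ := k4 (by
      intro h'
      apply h.n7
      field_simp at h'
      exact h'.symm)
    obtain ⟨c6, d6⟩ := k6 (by
      intro h'
      apply h.n7
      field_simp at h'
      exact h')
    have c7 := k7 h.n2
    obtain ⟨c8, d8⟩ := k8 h.n1
    refine ⟨c.a5, ?_⟩
    rw [el5]
    exact congrArg T.el (Cd.ext c1 c2 d2 c3 c4 d4 rfl c6 d6 c7 c8 d8)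

theorem fix6 : Fx2 T T.x6 := by
  obtain ⟨y, h⟩ := exists_nt hK hm
  have hs := hK.sq
  have y0 := h.n0
  have s0 : σ y ≠ 0 := (map_ne_zero σ).2 h.n0
  obtain ⟨α, hα⟩ := exists_tor T hK (y * σ y)⁻¹ y (RingEquiv.refl K) (inv_ne_zero (mul_ne_zero y0 s0)) y0
  have e2 : (y * σ y)⁻¹ * y = (σ y)⁻¹ := by field_simp
  have sf : σ (y * σ y)⁻¹ = (σ y * y ^ 2)⁻¹ := by rw [map_inv₀, map_mul, hs]
  have sp : σ (σ y)⁻¹ = (y ^ 2)⁻¹ := by rw [map_inv₀, hs]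
  have e6 : (y * σ y)⁻¹ * y * σ y = 1 := by
    rw [e2, inv_mul_cancel₀ s0]
  refine ⟨α, (y * σ y)⁻¹, y, hα, fun p u => ?_, fun x hx => ?_⟩
  · rw [hα.e6, e6, map_one, one_mul, one_mul, one_mul, RingEquiv.refl_apply, RingEquiv.refl_apply]
  · obtain ⟨c, rfl⟩ := T.bij.2 x
    obtain ⟨k1, k2, k3, k4, k5, k6, k7, k8⟩ := fix_aux hs hα hx (z1 := (y * σ y)⁻¹) (z2 := (σ y)⁻¹)
      (z3 := (y * σ y)⁻¹) (z4 := y⁻¹) (z5 := y⁻¹) (z6 := 1) (z7 := y) (z8 := y) rfl e2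
      (by rw [e2, sp]; field_simp) (by rw [e2, sp]; field_simp) (by rw [sf]; field_simp) e6
      (by field_simp) rfl
    have c1 := k1 (inv_ne_one.2 h.n3)
    obtain ⟨c2, d2⟩ := k2 (inv_ne_one.2 h.n2)
    have c3 := k3 (inv_ne_one.2 h.n3)
    obtain ⟨c4, d4⟩ := k4 (inv_ne_one.2 h.n1)
    have c5 := k5 (inv_ne_one.2 h.n1)
    have c7 := k7 h.n1
    obtain ⟨c8, d8⟩ := k8 h.n1
    refine ⟨c.a6, c.b6, ?_⟩
    rw [el6]
    exact congrArg T.el (Cd.ext c1 c2 d2 c3 c4 d4 c5 rfl rfl c7 c8 d8)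

theorem fix7 : Fx1 T T.x7 := by
  obtain ⟨y, h⟩ := exists_nt hK hm
  have hs := hK.sq
  have y0 := h.n0
  have s0 : σ y ≠ 0 := (map_ne_zero σ).2 h.n0
  obtain ⟨α, hα⟩ := exists_tor T hK (y ^ 2 * σ y)⁻¹ y (RingEquiv.refl K)
    (inv_ne_zero (mul_ne_zero (pow_ne_zero 2 y0) s0)) y0
  have e2 : (y ^ 2 * σ y)⁻¹ * y = (y * σ y)⁻¹ := by field_simp
  have sf : σ (y ^ 2 * σ y)⁻¹ = (σ y ^ 2 * y ^ 2)⁻¹ := by rw [map_inv₀, map_mul, map_pow, hs]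
  have sp : σ (y * σ y)⁻¹ = (σ y * y ^ 2)⁻¹ := by rw [map_inv₀, map_mul, hs]
  have e7 : (y ^ 2 * σ y)⁻¹ * y ^ 2 * σ y = 1 := by field_simp
  refine ⟨α, (y ^ 2 * σ y)⁻¹, y, hα, fun t => ?_, fun x hx => ?_⟩
  · rw [hα.e7, e7, one_mul, RingEquiv.refl_apply]
  · obtain ⟨c, rfl⟩ := T.bij.2 x
    obtain ⟨k1, k2, k3, k4, k5, k6, k7, k8⟩ := fix_aux hs hα hx (z1 := (y ^ 2 * σ y)⁻¹) (z2 := (y * σ y)⁻¹)
      (z3 := ((y * σ y) ^ 2)⁻¹) (z4 := (y * σ y)⁻¹) (z5 := (y ^ 2 * σ y)⁻¹) (z6 := y⁻¹) (z7 := 1) (z8 := y) rfl e2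
      (by rw [e2, sp]; field_simp) (by rw [e2, sp]; field_simp) (by rw [sf]; field_simp) (by rw [e2]; field_simp)
      e7 rfl
    have c1 := k1 (inv_ne_one.2 h.n4)
    obtain ⟨c2, d2⟩ := k2 (inv_ne_one.2 h.n3)
    have c3 := k3 (inv_ne_one.2 h.n5)
    obtain ⟨c4, d4⟩ := k4 (inv_ne_one.2 h.n3)
    have c5 := k5 (inv_ne_one.2 h.n4)
    obtain ⟨c6, d6⟩ := k6 (inv_ne_one.2 h.n1)
    obtain ⟨c8, d8⟩ := k8 h.n1
    refine ⟨c.a7, ?_⟩
    rw [el7]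
    exact congrArg T.el (Cd.ext c1 c2 d2 c3 c4 d4 c5 c6 d6 rfl c8 d8)

end fix

/-! ### all scalars occur -/

/-- the torus acts on `X` by all scalars -/
def Ch1 (T : TF σ U) (X : K → U) : Prop :=
  ∀ c : K, c ≠ 0 → ∃ (α : MulAut U) (f g : K), T.IsTor α f g (RingEquiv.refl K) ∧ ∀ t, α (X t) = X (c * t)

def Ch2 (T : TF σ U) (X : K → K → U) : Prop :=
  ∀ c : K, c ≠ 0 → ∃ (α : MulAut U) (f g : K), T.IsTor α f g (RingEquiv.refl K) ∧
    ∀ p u, α (X p u) = X (c * p) (c * σ c * u)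

section ch

variable {m : ℕ} (hK : HypK σ m) (T)
include hK

theorem ch1 : Ch1 T T.x1 := by
  intro c hc
  obtain ⟨α, hα⟩ := exists_tor T hK c 1 (RingEquiv.refl K) hc one_ne_zero
  exact ⟨α, c, 1, hα, fun t => by rw [hα.e1, RingEquiv.refl_apply]⟩

theorem ch2 : Ch2 T T.x2 := by
  intro c hc
  obtain ⟨α, hα⟩ := exists_tor T hK c 1 (RingEquiv.refl K) hc one_ne_zero
  exact ⟨α, c, 1, hα, fun p u => by rw [hα.e2, RingEquiv.refl_apply, RingEquiv.refl_apply, mul_one]⟩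

theorem exists_nsig {c : K} (hc : c ≠ 0) : ∃ r : K, r ≠ 0 ∧ r * σ r = c := by
  haveI := hK.fin
  obtain ⟨r, hr⟩ := exists_sq hK.two hK.sq c
  refine ⟨r, ?_, hr⟩
  rintro rfl
  rw [zero_mul] at hr
  exact hc hr.symm

theorem exists_sig {c : K} (hc : c ≠ 0) : ∃ r : K, r ≠ 0 ∧ σ r = c := by
  haveI := hK.fin
  obtain ⟨r, hr⟩ := Finite.surjective_of_injective σ.injective c
  refine ⟨r, ?_, hr⟩
  rintro rfl
  rw [map_zero] at hr
  exact hc hr.symm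

theorem ch3 : Ch1 T T.x3 := by
  intro c hc
  obtain ⟨r, hr, h⟩ := exists_nsig hK hc
  obtain ⟨α, hα⟩ := exists_tor T hK r 1 (RingEquiv.refl K) hr one_ne_zero
  exact ⟨α, r, 1, hα, fun t => by rw [hα.e3, RingEquiv.refl_apply, mul_one, mul_one, h]⟩

theorem ch4 : Ch2 T T.x4 := by
  intro c hc
  obtain ⟨r, hr, h⟩ := exists_sig hK hc
  obtain ⟨α, hα⟩ := exists_tor T hK r 1 (RingEquiv.refl K) hr one_ne_zero
  exact ⟨α, r, 1, hα, fun p u => by rw [hα.e4, RingEquiv.refl_apply, RingEquiv.refl_apply, mul_one, mul_one, h]⟩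

theorem ch5 : Ch1 T T.x5 := by
  intro c hc
  obtain ⟨r, hr, h⟩ := exists_nsig hK hc
  obtain ⟨α, hα⟩ := exists_tor T hK r 1 (RingEquiv.refl K) hr one_ne_zero
  exact ⟨α, r, 1, hα, fun t => by rw [hα.e5, RingEquiv.refl_apply, map_one, one_pow, mul_one, mul_one, h]⟩

theorem ch6 : Ch2 T T.x6 := by
  intro c hc
  obtain ⟨α, hα⟩ := exists_tor T hK c 1 (RingEquiv.refl K) hc one_ne_zero
  exact ⟨α, c, 1, hα, fun p u => by rw [hα.e6, RingEquiv.refl_apply, RingEquiv.refl_apply, map_one, mul_one, mul_one]⟩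

theorem ch7 : Ch1 T T.x7 := by
  intro c hc
  obtain ⟨α, hα⟩ := exists_tor T hK c 1 (RingEquiv.refl K) hc one_ne_zero
  exact ⟨α, c, 1, hα, fun t => by rw [hα.e7, RingEquiv.refl_apply, map_one, one_pow, mul_one, mul_one]⟩

theorem ch8 : Ch2 T T.x8 := by
  intro c hc
  obtain ⟨α, hα⟩ := exists_tor T hK 1 c (RingEquiv.refl K) one_ne_zero hc
  exact ⟨α, 1, c, hα, fun p u => by rw [hα.e8, RingEquiv.refl_apply, RingEquiv.refl_apply]⟩

end ch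

/-! ### the abstract scalar lemmas -/

/-- an injective homomorphism `Q → U` commuting with the torus -/
structure Bt (T : TF σ U) (Q : Subgroup U) (b : U → U) : Prop where
  mul : ∀ x ∈ Q, ∀ y ∈ Q, b (x * y) = b x * b y
  inj : ∀ x ∈ Q, ∀ y ∈ Q, b x = b y → x = y
  com : ∀ (α : MulAut U) (f g : K), T.IsTor α f g (RingEquiv.refl K) → ∀ x ∈ Q, b (α x) = α (b x)

theorem Bt.one {Q : Subgroup U} {b : U → U} (B : Bt T Q b) : b 1 = 1 := by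
  have h := B.mul 1 Q.one_mem 1 Q.one_mem
  rw [one_mul] at h
  exact (mul_eq_left.1 h.symm)

theorem odd_abs {Q : Subgroup U} {b : U → U} (B : Bt T Q b) {X : K → U} (h0 : X 0 = 1)
    (hinj : ∀ s t, X s = X t → s = t) (hX : ∀ t, X t ∈ Q) (hfix : Fx1 T X) (hch : Ch1 T X) :
    ∃ a : K, a ≠ 0 ∧ ∀ t, b (X t) = X (a * t) := by
  obtain ⟨α, f, g, hα, h1, h2⟩ := hfix
  obtain ⟨a, ha⟩ := h2 (b (X 1)) (by rw [← B.com α f g hα _ (hX 1), h1])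
  refine ⟨a, ?_, fun t => ?_⟩
  · rintro rfl
    rw [h0, ← B.one, ← h0] at ha
    exact one_ne_zero (hinj _ _ (B.inj _ (hX _) _ (hX _) ha))
  · by_cases ht : t = 0
    · rw [ht, mul_zero, h0, B.one]
    · obtain ⟨γ, f', g', hγ, h3⟩ := hch t ht
      have h4 := h3 1
      rw [mul_one] at h4
      rw [← h4, B.com γ f' g' hγ _ (hX 1), ha, h3, mul_comm]

theorem even_abs {m : ℕ} (hK : HypK σ m) (hm : 1 ≤ m) {Q : Subgroup U} {b : U → U} (B : Bt T Q b) {X : K → K → U}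
    (hmul : ∀ p u q v, X p u * X q v = X (p + q) (u + v + p * σ q)) (h0 : X 0 0 = 1)
    (hinj : ∀ p u q v, X p u = X q v → p = q ∧ u = v) (hX : ∀ p u, X p u ∈ Q) (hfix : Fx2 T X) (hch : Ch2 T X) :
    ∃ a : K, a ≠ 0 ∧ ∀ p u, b (X p u) = X (a * p) (a * σ a * u) := by
  have h2K := hK.two
  have hdb : ∀ x : K, x + x = 0 := fun x => by linear_combination x * h2K
  obtain ⟨α, f, g, hα, h1, h2⟩ := hfix
  have hex : ∀ p u, ∃ h k, b (X p u) = X h k := fun p u => h2 (b (X p u)) (by rw [← B.com α f g hα _ (hX p u), h1])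
  -- the centre
  obtain ⟨bb, hbb⟩ : ∃ k, b (X 0 1) = X 0 k := by
    obtain ⟨h, k, hk⟩ := hex 0 1
    have h3 : b (X 0 1 * X 0 1) = X h k * X h k := by rw [B.mul _ (hX _ _) _ (hX _ _), hk]
    rw [hmul, hmul, hdb, hdb, hdb, hdb, zero_mul, zero_add, h0, B.one, ← h0] at h3
    have h4 := (hinj _ _ _ _ h3).2
    rw [zero_add] at h4
    have h5 : h = 0 := by
      rcases mul_eq_zero.1 h4.symm with h6 | h6
      · exact h6
      · exact (map_eq_zero σ).1 h6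
    exact ⟨k, by rw [hk, h5]⟩
  have hz : ∀ w, b (X 0 w) = X 0 (w * bb) := by
    intro w
    by_cases hw : w = 0
    · rw [hw, zero_mul, h0, B.one]
    · obtain ⟨c, hc, hcw⟩ := exists_nsig hK hw
      obtain ⟨γ, f', g', hγ, h3⟩ := hch c hc
      have h4 := h3 0 1
      rw [mul_zero, mul_one, hcw] at h4
      rw [← h4, B.com γ f' g' hγ _ (hX _ _), hbb, h3, mul_zero, hcw]
  obtain ⟨a, l, hal⟩ := hex 1 0
  have hp : ∀ p, b (X p 0) = X (p * a) (p * σ p * l) := by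
    intro p
    by_cases hp : p = 0
    · rw [hp, zero_mul, zero_mul, zero_mul, h0, B.one]
    · obtain ⟨γ, f', g', hγ, h3⟩ := hch p hp
      have h4 := h3 1 0
      rw [mul_zero, mul_one] at h4
      rw [← h4, B.com γ f' g' hγ _ (hX _ _), hal, h3]
  have hba : bb = a * σ a := by
    have h3 : b (X 1 0 * X 1 0) = X a l * X a l := by rw [B.mul _ (hX _ _) _ (hX _ _), hal]
    rw [hmul, hmul, hdb, hdb, hdb, map_one, mul_one, zero_add, hbb, hdb, zero_add] at h3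
    exact (hinj _ _ _ _ h3).2
  obtain ⟨y, hy⟩ := exists_nt hK hm
  have hl : l = 0 := by
    have h3 : b (X y 0 * X 1 0) = b (X (y + 1) 0 * X 0 y) := by
      rw [hmul, hmul, map_one, map_zero, mul_one, mul_zero, add_zero, add_zero, zero_add, add_zero]
    rw [B.mul _ (hX _ _) _ (hX _ _), B.mul _ (hX _ _) _ (hX _ _), hp, hp, hp, hz, hmul, hmul, hba] at h3
    have h4 := (hinj _ _ _ _ h3).2
    rw [map_add, map_one, one_mul, map_zero, mul_zero, add_zero, one_mul, one_mul] at h4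
    have h5 : l * (σ y - y) = 0 := by linear_combination -h4 - y * l * h2K
    rcases mul_eq_zero.1 h5 with h6 | h6
    · exact h6
    · exact absurd (sub_eq_zero.1 h6) hy.n7
  refine ⟨a, ?_, fun p u => ?_⟩
  · rintro rfl
    rw [hl, h0, ← B.one, ← h0] at hal
    exact one_ne_zero (hinj _ _ _ _ (B.inj _ (hX _ _) _ (hX _ _) hal)).1
  · have h3 : X p u = X p 0 * X 0 u := by rw [hmul, map_zero, mul_zero, add_zero, add_zero, zero_add]
    rw [h3, B.mul _ (hX _ _) _ (hX _ _), hp, hz, hmul, hl, hba, map_zero, mul_zero, mul_zero, add_zero, add_zero,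
      zero_add, mul_comm p, mul_comm u]

/-! ### restriction -/

/-- the root elements are mapped into the root groups by the torus -/
theorem tor_QA {α : MulAut U} {f g : K} {τ : K ≃+* K} (hα : T.IsTor α f g τ) : ∀ x ∈ T.QA, α x ∈ T.QA := by
  have h : T.QA ≤ T.QA.comap α.toMonoidHom := by
    nth_rw 1 [TF.QA]
    unfold TF.X1 TF.X2 TF.X3 TF.X4 TF.X5 TF.X6 TF.X7
    refine sup_le (sup_le (sup_le (sup_le (sup_le (sup_le ?_ ?_) ?_) ?_) ?_) ?_) ?_ <;>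
      refine (Subgroup.closure_le _).2 ?_
    · rintro _ ⟨t, rfl⟩; change α _ ∈ T.QA; rw [hα.e1]; exact x1_A _
    · rintro _ ⟨p, u, rfl⟩; change α _ ∈ T.QA; rw [hα.e2]; exact x2_A _ _
    · rintro _ ⟨t, rfl⟩; change α _ ∈ T.QA; rw [hα.e3]; exact x3_A _
    · rintro _ ⟨p, u, rfl⟩; change α _ ∈ T.QA; rw [hα.e4]; exact x4_A _ _
    · rintro _ ⟨t, rfl⟩; change α _ ∈ T.QA; rw [hα.e5]; exact x5_A _
    · rintro _ ⟨p, u, rfl⟩; change α _ ∈ T.QA; rw [hα.e6]; exact x6_A _ _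
    · rintro _ ⟨t, rfl⟩; change α _ ∈ T.QA; rw [hα.e7]; exact x7_A _
  exact fun x hx => h hx

theorem tor_QB {α : MulAut U} {f g : K} {τ : K ≃+* K} (hα : T.IsTor α f g τ) : ∀ x ∈ T.QB, α x ∈ T.QB := by
  have h : T.QB ≤ T.QB.comap α.toMonoidHom := by
    nth_rw 1 [TF.QB]
    unfold TF.X2 TF.X3 TF.X4 TF.X5 TF.X6 TF.X7 TF.X8
    refine sup_le (sup_le (sup_le (sup_le (sup_le (sup_le ?_ ?_) ?_) ?_) ?_) ?_) ?_ <;>
      refine (Subgroup.closure_le _).2 ?_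
    · rintro _ ⟨p, u, rfl⟩; change α _ ∈ T.QB; rw [hα.e2]; exact x2_B _ _
    · rintro _ ⟨t, rfl⟩; change α _ ∈ T.QB; rw [hα.e3]; exact x3_B _
    · rintro _ ⟨p, u, rfl⟩; change α _ ∈ T.QB; rw [hα.e4]; exact x4_B _ _
    · rintro _ ⟨t, rfl⟩; change α _ ∈ T.QB; rw [hα.e5]; exact x5_B _
    · rintro _ ⟨p, u, rfl⟩; change α _ ∈ T.QB; rw [hα.e6]; exact x6_B _ _
    · rintro _ ⟨t, rfl⟩; change α _ ∈ T.QB; rw [hα.e7]; exact x7_B _
    · rintro _ ⟨p, u, rfl⟩; change α _ ∈ T.QB; rw [hα.e8]; exact x8_B _ _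
  exact fun x hx => h hx

/-- the restriction of an automorphism -/
theorem exists_restr' [Finite U] {Q : Subgroup U} {α : MulAut U} (h : ∀ x ∈ Q, α x ∈ Q) : ∃ t : MulAut Q, TF.IsR α t := by
  let φ : Q →* Q := (α.toMonoidHom.comp Q.subtype).codRestrict Q (fun x => h _ x.2)
  have hinj : Function.Injective φ := by
    intro x y hxy
    have h1 : α (x : U) = α (y : U) := congrArg Subtype.val hxy
    exact Subtype.ext (α.injective h1)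
  exact ⟨MulEquiv.ofBijective φ (Finite.injective_iff_bijective.1 hinj), fun e => rfl⟩

/-- the extension of `β` by `1` outside `Q` -/
noncomputable def ext1 {Q : Subgroup U} (β : MulAut Q) (x : U) : U := by
  classical exact if h : x ∈ Q then ((β ⟨x, h⟩ : Q) : U) else 1

theorem ext1_eq {Q : Subgroup U} (β : MulAut Q) {x : U} (h : x ∈ Q) : ext1 β x = ((β ⟨x, h⟩ : Q) : U) := by
  unfold ext1
  exact dif_pos h

theorem ext1_Bt [Finite U] {Q : Subgroup U}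
    (hQ : ∀ (α : MulAut U) (f g : K), T.IsTor α f g (RingEquiv.refl K) → ∀ x ∈ Q, α x ∈ Q) (β : MulAut Q)
    (hβ : ∀ f g α, T.IsTor α f g (RingEquiv.refl K) → ∀ t, TF.IsR α t → β * t = t * β) : Bt T Q (ext1 β) where
  mul x hx y hy := by
    rw [ext1_eq β hx, ext1_eq β hy, ext1_eq β (Q.mul_mem hx hy), ← Subgroup.coe_mul, ← map_mul]
    rfl
  inj x hx y hy h := by
    rw [ext1_eq β hx, ext1_eq β hy] at h
    have h1 := β.injective (Subtype.ext h)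
    exact congrArg Subtype.val h1
  com α f g hα x hx := by
    obtain ⟨t, ht⟩ := exists_restr' (hQ α f g hα)
    have h1 := DFunLike.congr_fun (hβ f g α hα t ht) ⟨x, hx⟩
    rw [MulAut.mul_apply, MulAut.mul_apply] at h1
    have h2 : t ⟨x, hx⟩ = ⟨α x, hQ α f g hα x hx⟩ := Subtype.ext (ht _)
    rw [h2] at h1
    rw [ext1_eq β hx, ext1_eq β (hQ α f g hα x hx), h1, ht]

/-- a homomorphism agreeing with `α` on the root elements -/
theorem isR_A {β : MulAut T.QA} {α : MulAut U} (h1 : ∀ t, ext1 β (T.x1 t) = α (T.x1 t))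
    (h2 : ∀ p u, ext1 β (T.x2 p u) = α (T.x2 p u)) (h3 : ∀ t, ext1 β (T.x3 t) = α (T.x3 t))
    (h4 : ∀ p u, ext1 β (T.x4 p u) = α (T.x4 p u)) (h5 : ∀ t, ext1 β (T.x5 t) = α (T.x5 t))
    (h6 : ∀ p u, ext1 β (T.x6 p u) = α (T.x6 p u)) (h7 : ∀ t, ext1 β (T.x7 t) = α (T.x7 t)) : TF.IsR α β := by
  let M : Subgroup U := ((T.QA.subtype.comp β.toMonoidHom).eqLocus (α.toMonoidHom.comp T.QA.subtype)).map T.QA.subtype
  have key : ∀ x (hx : x ∈ T.QA), ext1 β x = α x → x ∈ M := by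
    intro x hx h
    rw [ext1_eq β hx] at h
    exact ⟨⟨x, hx⟩, h, rfl⟩
  have hM : T.QA ≤ M := by
    nth_rw 1 [TF.QA]
    unfold TF.X1 TF.X2 TF.X3 TF.X4 TF.X5 TF.X6 TF.X7
    refine sup_le (sup_le (sup_le (sup_le (sup_le (sup_le ?_ ?_) ?_) ?_) ?_) ?_) ?_ <;>
      refine (Subgroup.closure_le _).2 ?_
    · rintro _ ⟨t, rfl⟩; exact key _ (x1_A _) (h1 _)
    · rintro _ ⟨p, u, rfl⟩; exact key _ (x2_A _ _) (h2 _ _)
    · rintro _ ⟨t, rfl⟩; exact key _ (x3_A _) (h3 _)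
    · rintro _ ⟨p, u, rfl⟩; exact key _ (x4_A _ _) (h4 _ _)
    · rintro _ ⟨t, rfl⟩; exact key _ (x5_A _) (h5 _)
    · rintro _ ⟨p, u, rfl⟩; exact key _ (x6_A _ _) (h6 _ _)
    · rintro _ ⟨t, rfl⟩; exact key _ (x7_A _) (h7 _)
  intro e
  obtain ⟨e', he', h⟩ := hM e.2
  have h8 : e' = e := Subtype.ext h
  rw [h8] at he'
  exact he'

theorem isR_B {β : MulAut T.QB} {α : MulAut U} (h2 : ∀ p u, ext1 β (T.x2 p u) = α (T.x2 p u))
    (h3 : ∀ t, ext1 β (T.x3 t) = α (T.x3 t)) (h4 : ∀ p u, ext1 β (T.x4 p u) = α (T.x4 p u))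
    (h5 : ∀ t, ext1 β (T.x5 t) = α (T.x5 t)) (h6 : ∀ p u, ext1 β (T.x6 p u) = α (T.x6 p u))
    (h7 : ∀ t, ext1 β (T.x7 t) = α (T.x7 t)) (h8 : ∀ p u, ext1 β (T.x8 p u) = α (T.x8 p u)) : TF.IsR α β := by
  let M : Subgroup U := ((T.QB.subtype.comp β.toMonoidHom).eqLocus (α.toMonoidHom.comp T.QB.subtype)).map T.QB.subtype
  have key : ∀ x (hx : x ∈ T.QB), ext1 β x = α x → x ∈ M := by
    intro x hx h
    rw [ext1_eq β hx] at h
    exact ⟨⟨x, hx⟩, h, rfl⟩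
  have hM : T.QB ≤ M := by
    nth_rw 1 [TF.QB]
    unfold TF.X2 TF.X3 TF.X4 TF.X5 TF.X6 TF.X7 TF.X8
    refine sup_le (sup_le (sup_le (sup_le (sup_le (sup_le ?_ ?_) ?_) ?_) ?_) ?_) ?_ <;>
      refine (Subgroup.closure_le _).2 ?_
    · rintro _ ⟨p, u, rfl⟩; exact key _ (x2_B _ _) (h2 _ _)
    · rintro _ ⟨t, rfl⟩; exact key _ (x3_B _) (h3 _)
    · rintro _ ⟨p, u, rfl⟩; exact key _ (x4_B _ _) (h4 _ _)
    · rintro _ ⟨t, rfl⟩; exact key _ (x5_B _) (h5 _)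
    · rintro _ ⟨p, u, rfl⟩; exact key _ (x6_B _ _) (h6 _ _)
    · rintro _ ⟨t, rfl⟩; exact key _ (x7_B _) (h7 _)
    · rintro _ ⟨p, u, rfl⟩; exact key _ (x8_B _ _) (h8 _ _)
  intro e
  obtain ⟨e', he', h⟩ := hM e.2
  have h8 : e' = e := Subtype.ext h
  rw [h8] at he'
  exact he'

/-- from a relation `x y = y x z` -/
theorem Bt.rel {Q : Subgroup U} {b : U → U} (B : Bt T Q b) {x y z : U} (hx : x ∈ Q) (hy : y ∈ Q) (hz : z ∈ Q)
    (h : x * y = y * x * z) {z' : U} (h' : b x * b y = b y * b x * z') : b z = z' := by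
  have h1 := congrArg b h
  rw [B.mul _ hx _ hy, B.mul _ (Q.mul_mem hy hx) _ hz, B.mul _ hy _ hx, h'] at h1
  exact (mul_left_cancel h1).symm

/-- **Scalars on `QA`.** -/
theorem scalA {m : ℕ} (hK : HypK σ m) (hm : 1 ≤ m) {b : U → U} (B : Bt T T.QA b) :
    ∃ f g : K, f ≠ 0 ∧ g ≠ 0 ∧ (∀ t, b (T.x1 t) = T.x1 (f * t)) ∧
    (∀ p u, b (T.x2 p u) = T.x2 (f * g * p) (f * g * σ (f * g) * u)) ∧
    (∀ t, b (T.x3 t) = T.x3 (f * g * σ (f * g) * g * t)) ∧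
    (∀ p u, b (T.x4 p u) = T.x4 (σ (f * g) * g * p) (σ (f * g) * g * σ (σ (f * g) * g) * u)) ∧
    (∀ t, b (T.x5 t) = T.x5 (f * σ f * g ^ 2 * σ g ^ 2 * t)) ∧
    (∀ p u, b (T.x6 p u) = T.x6 (f * g * σ g * p) (f * g * σ g * σ (f * g * σ g) * u)) ∧
    (∀ t, b (T.x7 t) = T.x7 (f * g ^ 2 * σ g * t)) := by
  have hs := hK.sq
  obtain ⟨a1, n1, h1⟩ := odd_abs B (x1_zero T.rel) (fun _ _ => inj1) x1_A (fix1 T hK hm) (ch1 T hK)
  obtain ⟨a2, n2, h2⟩ := even_abs hK hm B T.rel.m2 (x2_zero T.rel) (fun _ _ _ _ => inj2) x2_A (fix2 T hK hm) (ch2 T hK)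
  obtain ⟨a3, n3, h3⟩ := odd_abs B (x3_zero T.rel) (fun _ _ => inj3) x3_A (fix3 T hK hm) (ch3 T hK)
  obtain ⟨a4, n4, h4⟩ := even_abs hK hm B T.rel.m4 (x4_zero T.rel) (fun _ _ _ _ => inj4) x4_A (fix4 T hK hm) (ch4 T hK)
  obtain ⟨a5, n5, h5⟩ := odd_abs B (x5_zero T.rel) (fun _ _ => inj5) x5_A (fix5 T hK hm) (ch5 T hK)
  obtain ⟨a6, n6, h6⟩ := even_abs hK hm B T.rel.m6 (x6_zero T.rel) (fun _ _ _ _ => inj6) x6_A (fix6 T hK hm) (ch6 T hK)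
  obtain ⟨a7, n7, h7⟩ := odd_abs B (x7_zero T.rel) (fun _ _ => inj7) x7_A (fix7 T hK hm) (ch7 T hK)
  have s2 : σ a2 ≠ 0 := (map_ne_zero σ).2 n2
  have s1 : σ a1 ≠ 0 := (map_ne_zero σ).2 n1
  -- relations
  have r14 : a2 * σ a2 = a1 * a4 := by
    have h := B.rel (x1_A _) (x4_A _ _) (x2_A _ _) (T.rel.r14 1 1 0) (by rw [h1, h4, T.rel.r14])
    rw [h2] at h
    have := (inj2 h).2
    linear_combination this
  have r24 : a3 = a2 * a4 := by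
    have h := B.rel (x2_A _ _) (x4_A _ _) (x3_A _) (T.rel.r24 1 0 1 0) (by rw [h2, h4, T.rel.r24])
    rw [h3] at h
    have := inj3 h
    linear_combination this
  have r46 : a5 = a4 * a6 := by
    have h := B.rel (x4_A _ _) (x6_A _ _) (x5_A _) (T.rel.r46 1 0 1 0) (by rw [h4, h6, T.rel.r46])
    rw [h5] at h
    have := inj5 h
    linear_combination this
  have r25 : a4 * σ a4 = a2 * a5 := by
    have h := B.rel (x2_A _ _) (x5_A _) (x4_A _ _) (T.rel.r25 1 0 1) (by rw [h2, h5, T.rel.r25])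
    rw [h4] at h
    have := (inj4 h).2
    linear_combination this
  have r47 : a6 * σ a6 = a4 * a7 := by
    have h := B.rel (x4_A _ _) (x7_A _) (x6_A _ _) (T.rel.r47 1 0 1) (by rw [h4, h7, T.rel.r47])
    rw [h6] at h
    have := (inj6 h).2
    linear_combination this
  obtain ⟨g, hg0, hg⟩ : ∃ g : K, g ≠ 0 ∧ a2 = a1 * g := ⟨a1⁻¹ * a2, mul_ne_zero (inv_ne_zero n1) n2, by
    rw [mul_inv_cancel_left₀ n1]⟩
  have hsg : σ g ≠ 0 := (map_ne_zero σ).2 hg0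
  subst hg
  have e4 : a4 = σ (a1 * g) * g := by
    apply mul_left_cancel₀ n1
    rw [← r14]; ring
  subst e4
  have e6 : a6 = a1 * g * σ g := by
    rw [r46] at r25
    have h9 : (a1 * g) * a6 = σ (σ (a1 * g) * g) := by
      apply mul_left_cancel₀ n4
      rw [r25]; ring
    apply mul_left_cancel₀ n2
    rw [h9, map_mul, hs]; ring
  subst e6
  have e5 : a5 = a1 * σ a1 * g ^ 2 * σ g ^ 2 := by
    rw [r46, map_mul]; ring
  subst e5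
  have e7 : a7 = a1 * g ^ 2 * σ g := by
    apply mul_left_cancel₀ n4
    rw [← r47, map_mul, map_mul, hs]; ring
  subst e7
  have e3 : a3 = a1 * g * σ (a1 * g) * g := by
    rw [r24]; ring
  subst e3
  exact ⟨a1, g, n1, hg0, h1, h2, h3, h4, h5, h6, h7⟩

/-- **Scalars on `QB`.** -/
theorem scalB {m : ℕ} (hK : HypK σ m) (hm : 1 ≤ m) {b : U → U} (B : Bt T T.QB b) :
    ∃ f g : K, f ≠ 0 ∧ g ≠ 0 ∧
    (∀ p u, b (T.x2 p u) = T.x2 (f * g * p) (f * g * σ (f * g) * u)) ∧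
    (∀ t, b (T.x3 t) = T.x3 (f * g * σ (f * g) * g * t)) ∧
    (∀ p u, b (T.x4 p u) = T.x4 (σ (f * g) * g * p) (σ (f * g) * g * σ (σ (f * g) * g) * u)) ∧
    (∀ t, b (T.x5 t) = T.x5 (f * σ f * g ^ 2 * σ g ^ 2 * t)) ∧
    (∀ p u, b (T.x6 p u) = T.x6 (f * g * σ g * p) (f * g * σ g * σ (f * g * σ g) * u)) ∧
    (∀ t, b (T.x7 t) = T.x7 (f * g ^ 2 * σ g * t)) ∧
    (∀ p u, b (T.x8 p u) = T.x8 (g * p) (g * σ g * u)) := by
  have hs := hK.sq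
  obtain ⟨a2, n2, h2⟩ := even_abs hK hm B T.rel.m2 (x2_zero T.rel) (fun _ _ _ _ => inj2) x2_B (fix2 T hK hm) (ch2 T hK)
  obtain ⟨a3, n3, h3⟩ := odd_abs B (x3_zero T.rel) (fun _ _ => inj3) x3_B (fix3 T hK hm) (ch3 T hK)
  obtain ⟨a4, n4, h4⟩ := even_abs hK hm B T.rel.m4 (x4_zero T.rel) (fun _ _ _ _ => inj4) x4_B (fix4 T hK hm) (ch4 T hK)
  obtain ⟨a5, n5, h5⟩ := odd_abs B (x5_zero T.rel) (fun _ _ => inj5) x5_B (fix5 T hK hm) (ch5 T hK)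
  obtain ⟨a6, n6, h6⟩ := even_abs hK hm B T.rel.m6 (x6_zero T.rel) (fun _ _ _ _ => inj6) x6_B (fix6 T hK hm) (ch6 T hK)
  obtain ⟨a7, n7, h7⟩ := odd_abs B (x7_zero T.rel) (fun _ _ => inj7) x7_B (fix7 T hK hm) (ch7 T hK)
  obtain ⟨a8, n8, h8⟩ := even_abs hK hm B T.rel.m8 (x8_zero T.rel) (fun _ _ _ _ => inj8) x8_B (fix8 T hK hm) (ch8 T hK)
  -- relations
  have r24 : a3 = a2 * a4 := by
    have h := B.rel (x2_B _ _) (x4_B _ _) (x3_B _) (T.rel.r24 1 0 1 0) (by rw [h2, h4, T.rel.r24])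
    rw [h3] at h
    have := inj3 h
    linear_combination this
  have r46 : a5 = a4 * a6 := by
    have h := B.rel (x4_B _ _) (x6_B _ _) (x5_B _) (T.rel.r46 1 0 1 0) (by rw [h4, h6, T.rel.r46])
    rw [h5] at h
    have := inj5 h
    linear_combination this
  have r68 : a7 = a6 * a8 := by
    have h := B.rel (x6_B _ _) (x8_B _ _) (x7_B _) (T.rel.r68 1 0 1 0) (by rw [h6, h8, T.rel.r68])
    rw [h7] at h
    have := inj7 h
    linear_combination this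
  have r25 : a4 * σ a4 = a2 * a5 := by
    have h := B.rel (x2_B _ _) (x5_B _) (x4_B _ _) (T.rel.r25 1 0 1) (by rw [h2, h5, T.rel.r25])
    rw [h4] at h
    have := (inj4 h).2
    linear_combination this
  have r58 : a6 * σ a6 = a5 * a8 := by
    have h := B.rel (x5_B _) (x8_B _ _) (x6_B _ _) (T.rel.r58 1 1 0) (by rw [h5, h8, T.rel.r58])
    rw [h6] at h
    have := (inj6 h).2
    linear_combination this
  obtain ⟨f, hf0, hf⟩ : ∃ f : K, f ≠ 0 ∧ a2 = f * a8 := ⟨a2 * a8⁻¹, mul_ne_zero n2 (inv_ne_zero n8), by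
    rw [inv_mul_cancel_right₀ n8]⟩
  subst hf
  have hsf : σ f ≠ 0 := (map_ne_zero σ).2 hf0
  have hs8 : σ a8 ≠ 0 := (map_ne_zero σ).2 n8
  -- `σ a6 = a4 a8`, `σ a4 = a2 a6`
  have e68 : σ a6 = a4 * a8 := by
    apply mul_left_cancel₀ n6
    rw [r58, r46]; ring
  have e46 : σ a4 = (f * a8) * a6 := by
    apply mul_left_cancel₀ n4
    rw [r25, r46]; ring
  have e4 : a4 = σ (f * a8) * a8 := by
    have h9 := congrArg σ e46
    rw [hs, map_mul, e68] at h9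
    apply mul_left_cancel₀ n4
    rw [← pow_two, h9]; ring
  subst e4
  have e6 : a6 = f * a8 * σ a8 := by
    apply mul_left_cancel₀ n2
    rw [← e46, map_mul, hs]; ring
  subst e6
  have e5 : a5 = f * σ f * a8 ^ 2 * σ a8 ^ 2 := by
    rw [r46, map_mul]; ring
  subst e5
  have e7 : a7 = f * a8 ^ 2 * σ a8 := by
    rw [r68]; ring
  subst e7
  have e3 : a3 = f * a8 * σ (f * a8) * a8 := by
    rw [r24]; ring
  subst e3
  exact ⟨f, a8, hf0, n8, h2, h3, h4, h5, h6, h7, h8⟩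

/-- **Rigidity on `QA`.** -/
theorem rigidA {m : ℕ} (hK : HypK σ m) (hm : 1 ≤ m) (T : TF σ U) (β : MulAut T.QA)
    (hβ : ∀ f g α, T.IsTor α f g (RingEquiv.refl K) → ∀ t, TF.IsR α t → β * t = t * β) :
    ∃ f g, f ≠ 0 ∧ g ≠ 0 ∧ ∀ α, T.IsTor α f g (RingEquiv.refl K) → TF.IsR α β := by
  haveI := finite_U T hK
  obtain ⟨f, g, hf, hg, h1, h2, h3, h4, h5, h6, h7⟩ := scalA hK hm
    (ext1_Bt (fun α f g hα x hx => tor_QA hα x hx) β hβ)
  refine ⟨f, g, hf, hg, fun α hα => isR_A ?_ ?_ ?_ ?_ ?_ ?_ ?_⟩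
  · intro t; rw [h1, hα.e1, RingEquiv.refl_apply]
  · intro p u; rw [h2, hα.e2, RingEquiv.refl_apply, RingEquiv.refl_apply]
  · intro t; rw [h3, hα.e3, RingEquiv.refl_apply]
  · intro p u; rw [h4, hα.e4, RingEquiv.refl_apply, RingEquiv.refl_apply]
  · intro t; rw [h5, hα.e5, RingEquiv.refl_apply]
  · intro p u; rw [h6, hα.e6, RingEquiv.refl_apply, RingEquiv.refl_apply]
  · intro t; rw [h7, hα.e7, RingEquiv.refl_apply]

/-- **Rigidity on `QB`.** -/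
theorem rigidB {m : ℕ} (hK : HypK σ m) (hm : 1 ≤ m) (T : TF σ U) (β : MulAut T.QB)
    (hβ : ∀ f g α, T.IsTor α f g (RingEquiv.refl K) → ∀ t, TF.IsR α t → β * t = t * β) :
    ∃ f g, f ≠ 0 ∧ g ≠ 0 ∧ ∀ α, T.IsTor α f g (RingEquiv.refl K) → TF.IsR α β := by
  haveI := finite_U T hK
  obtain ⟨f, g, hf, hg, h2, h3, h4, h5, h6, h7, h8⟩ := scalB hK hm
    (ext1_Bt (fun α f g hα x hx => tor_QB hα x hx) β hβ)
  refine ⟨f, g, hf, hg, fun α hα => isR_B ?_ ?_ ?_ ?_ ?_ ?_ ?_⟩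
  · intro p u; rw [h2, hα.e2, RingEquiv.refl_apply, RingEquiv.refl_apply]
  · intro t; rw [h3, hα.e3, RingEquiv.refl_apply]
  · intro p u; rw [h4, hα.e4, RingEquiv.refl_apply, RingEquiv.refl_apply]
  · intro t; rw [h5, hα.e5, RingEquiv.refl_apply]
  · intro p u; rw [h6, hα.e6, RingEquiv.refl_apply, RingEquiv.refl_apply]
  · intro t; rw [h7, hα.e7, RingEquiv.refl_apply]
  · intro p u; rw [h8, hα.e8, RingEquiv.refl_apply, RingEquiv.refl_apply]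

end

end Cfsg.Agent.H659.TF
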