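import Mathlib

/-!
# S5262, A-side, `q = 2`: group-theoretic lemmas about elements of order 5 (helper659)
-/

set_option autoImplicit false

namespace Cfsg.Agent.H659.TF.A2

variable {G : Type*} [Group G]

/-- a finite group whose order is not divisible by 25: elements of order 5 generate conjugate subgroups -/
theorem conj5 [Finite G] (h25 : ¬ 25 ∣ Nat.card G) {a b : G} (ha : orderOf a = 5) (hb : orderOf b = 5) :
    ∃ g : G, g * a * g⁻¹ ∈ Subgroup.zpowers b := by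
  have h5 : Fact (Nat.Prime 5) := ⟨by norm_num⟩
  have hpg : ∀ x : G, orderOf x = 5 → IsPGroup 5 (Subgroup.zpowers x) := fun x hx => by
    rw [IsPGroup.iff_card]
    exact ⟨1, by rw [Nat.card_zpowers, hx, pow_one]⟩
  obtain ⟨P, hP⟩ := (hpg a ha).exists_le_sylow
  obtain ⟨Q, hQ⟩ := (hpg b hb).exists_le_sylow
  have hQc : Nat.card Q ≤ 5 := by
    obtain ⟨k, hk⟩ := IsPGroup.iff_card.1 Q.2
    rcases Nat.lt_or_ge k 2 with h | h
    · rw [hk]
      calc 5 ^ k ≤ 5 ^ 1 := Nat.pow_le_pow_right (by norm_num) (by omega)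
        _ = 5 := pow_one 5
    · exact absurd (((pow_dvd_pow 5 h).trans (hk ▸ dvd_rfl)).trans (Subgroup.card_subgroup_dvd_card (Q : Subgroup G))) h25
  have hQe : Subgroup.zpowers b = (Q : Subgroup G) := by
    refine Subgroup.eq_of_le_of_card_ge hQ ?_
    rw [Nat.card_zpowers, hb]
    exact hQc
  obtain ⟨g, hg⟩ := MulAction.exists_smul_eq G P Q
  refine ⟨g, ?_⟩
  rw [hQe, ← hg]
  exact Subgroup.smul_mem_pointwise_smul a (MulAut.conj g) (P : Subgroup G) (hP (Subgroup.mem_zpowers _))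

/-- in a group of order dividing 20 the elements of order 5 generate the same subgroup -/
theorem same5 [Finite G] (h20 : Nat.card G ∣ 20) {a b : G} (ha : orderOf a = 5) (hb : orderOf b = 5) :
    a ∈ Subgroup.zpowers b := by
  have h5 : Fact (Nat.Prime 5) := ⟨by norm_num⟩
  have h25 : ¬ 25 ∣ Nat.card G := fun h => absurd (Nat.le_of_dvd (by norm_num) (h.trans h20)) (by norm_num)
  have hcard : Nat.card (Sylow 5 G) = 1 := by
    have h1 := card_sylow_modEq_one 5 G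
    obtain ⟨P⟩ : Nonempty (Sylow 5 G) := inferInstance
    have h2 : Nat.card (Sylow 5 G) ∣ (P : Subgroup G).index := P.card_dvd_index
    have h3 : (P : Subgroup G).index ∣ 20 := (Subgroup.index_dvd_card _).trans h20
    have h4 : Nat.card (Sylow 5 G) ∣ 20 := h2.trans h3
    have h6 : Nat.card (Sylow 5 G) ≤ 20 := Nat.le_of_dvd (by norm_num) h4
    have h7 : Nat.card (Sylow 5 G) % 5 = 1 := h1
    generalize Nat.card (Sylow 5 G) = n at *
    interval_cases n <;> simp_all <;> omega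
  have hsub : Subsingleton (Sylow 5 G) := (Nat.card_eq_one_iff_unique.1 hcard).1
  obtain ⟨g, hg⟩ := conj5 h25 ha hb
  have hpg : ∀ x : G, orderOf x = 5 → IsPGroup 5 (Subgroup.zpowers x) := fun x hx => by
    rw [IsPGroup.iff_card]
    exact ⟨1, by rw [Nat.card_zpowers, hx, pow_one]⟩
  obtain ⟨P, hP⟩ := (hpg a ha).exists_le_sylow
  obtain ⟨Q, hQ⟩ := (hpg b hb).exists_le_sylow
  have hQc : Nat.card Q ≤ 5 := by
    obtain ⟨k, hk⟩ := IsPGroup.iff_card.1 Q.2
    rcases Nat.lt_or_ge k 2 with h | h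
    · rw [hk]
      calc 5 ^ k ≤ 5 ^ 1 := Nat.pow_le_pow_right (by norm_num) (by omega)
        _ = 5 := pow_one 5
    · exact absurd (((pow_dvd_pow 5 h).trans (hk ▸ dvd_rfl)).trans (Subgroup.card_subgroup_dvd_card (Q : Subgroup G))) h25
  have hQe : Subgroup.zpowers b = (Q : Subgroup G) := by
    refine Subgroup.eq_of_le_of_card_ge hQ ?_
    rw [Nat.card_zpowers, hb]
    exact hQc
  rw [hQe, ← Subsingleton.elim P Q]
  exact hP (Subgroup.mem_zpowers _)

/-- if `t ρ t⁻¹ ∈ ⟨ρ⟩` then `t⁻¹ ρ t ∈ ⟨ρ⟩` -/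
theorem inv_norm {t ρ : G} (hfin : orderOf ρ = 5) (h : t * ρ * t⁻¹ ∈ Subgroup.zpowers ρ) :
    t⁻¹ * ρ * t ∈ Subgroup.zpowers ρ := by
  have hf : Finite (Subgroup.zpowers ρ) := Nat.finite_of_card_ne_zero (by rw [Nat.card_zpowers, hfin]; norm_num)
  have h1 : ∀ x : Subgroup.zpowers ρ, t * x * t⁻¹ ∈ Subgroup.zpowers ρ := by
    rintro ⟨_, k, rfl⟩
    have h2 : t * ρ ^ k * t⁻¹ = (t * ρ * t⁻¹) ^ k := (conj_zpow (a := t) (b := ρ) (i := k)).symm
    show t * ρ ^ k * t⁻¹ ∈ _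
    rw [h2]
    exact Subgroup.zpow_mem _ h k
  let f : Subgroup.zpowers ρ → Subgroup.zpowers ρ := fun x => ⟨t * x * t⁻¹, h1 x⟩
  have hi : Function.Injective f := by
    intro x y hxy
    have h2 : t * (x : G) * t⁻¹ = t * y * t⁻¹ := congrArg Subtype.val hxy
    apply Subtype.ext
    simpa using h2
  obtain ⟨x, hx⟩ := (Finite.injective_iff_surjective.1 hi) ⟨ρ, Subgroup.mem_zpowers ρ⟩
  have h2 : t * (x : G) * t⁻¹ = ρ := congrArg Subtype.val hx
  have h3 : t⁻¹ * ρ * t = x := by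
    have h4 := congrArg (fun z => t⁻¹ * z * t) h2
    rw [← h4]; group
  rw [h3]
  exact x.2

/-- a natural exponent below 5 -/
theorem exists_pow5 {ρ x : G} (hρ : orderOf ρ = 5) (h : x ∈ Subgroup.zpowers ρ) : ∃ k < 5, x = ρ ^ k := by
  obtain ⟨k, hk⟩ := h
  refine ⟨(k % 5).toNat, ?_, ?_⟩
  · have h1 := Int.emod_nonneg k (b := 5) (by norm_num)
    have h2 := Int.emod_lt_of_pos k (b := 5) (by norm_num)
    omega
  · have h1 := Int.emod_nonneg k (b := 5) (by norm_num)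
    have h2 : ρ ^ (k % (5 : ℤ)) = ρ ^ k := by
      have := zpow_mod_orderOf ρ k
      rw [hρ] at this
      exact_mod_cast this
    rw [← zpow_natCast, Int.toNat_of_nonneg h1, h2]
    exact hk.symm

/-- `t` normalizes `⟨ρ⟩`, `|ρ| = 5`: `t ^ 4` centralizes `ρ` -/
theorem pow_four {t ρ : G} (hρ : orderOf ρ = 5) (h : t * ρ * t⁻¹ ∈ Subgroup.zpowers ρ) : t ^ 4 * ρ = ρ * t ^ 4 := by
  obtain ⟨k, hk5, hk⟩ := exists_pow5 hρ h
  have hk0 : k ≠ 0 := by
    rintro rfl
    rw [pow_zero, mul_inv_eq_one] at hk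
    have : ρ = 1 := by simpa using hk
    rw [this, orderOf_one] at hρ
    norm_num at hρ
  have h1 : ∀ n, t ^ n * ρ * (t ^ n)⁻¹ = ρ ^ k ^ n := by
    intro n
    induction n with
    | zero => simp
    | succ n ih =>
      have : t ^ (n + 1) * ρ * (t ^ (n + 1))⁻¹ = t * (t ^ n * ρ * (t ^ n)⁻¹) * t⁻¹ := by
        rw [pow_succ']; group
      rw [this, ih, ← conj_pow, hk, ← pow_mul, pow_succ']
  have h2 := h1 4
  have h3 : ρ ^ k ^ 4 = ρ := by
    have h4 : k ^ 4 % 5 = 1 := by interval_cases k <;> simp_all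
    rw [← pow_mod_orderOf, hρ, h4, pow_one]
  rw [h3, mul_inv_eq_iff_eq_mul] at h2
  exact h2

/-- fixed points of an automorphism of order 5 -/
theorem fix_mod {Q : Type*} [Group Q] [Finite Q] {ρ : MulAut Q} (hρ : ρ ^ 5 = 1) (X : Set Q) (hX : ∀ x ∈ X, ρ x ∈ X) :
    X.ncard ≡ {x | x ∈ X ∧ ρ x = x}.ncard [MOD 5] := by
  classical
  have h5 : Fact (Nat.Prime 5) := ⟨by norm_num⟩
  have := Fintype.ofFinite X
  let f : Function.End X := fun x => ⟨ρ x, hX x x.2⟩
  have hfn : ∀ n : ℕ, ∀ x : X, (((f ^ n : Function.End X) x : X) : Q) = (ρ ^ n) x := by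
    intro n
    induction n with
    | zero => intro x; rfl
    | succ n ih =>
      intro x
      rw [pow_succ', pow_succ', MulAut.mul_apply, ← ih x]
      rfl
  have hf : f ^ 5 ^ 1 = 1 := by
    funext x
    apply Subtype.ext
    rw [pow_one, hfn 5 x, hρ]
    rfl
  have h1 := Equiv.Perm.card_fixedPoints_modEq hf
  have h2 : Fintype.card f.fixedPoints = {x | x ∈ X ∧ ρ x = x}.ncard := by
    rw [← Nat.card_eq_fintype_card, ← Nat.card_coe_set_eq]
    refine Nat.card_congr ⟨fun x => ⟨x.1, x.1.2, congrArg Subtype.val x.2⟩, fun x => ⟨⟨x.1, x.2.1⟩, Subtype.ext x.2.2⟩,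
      fun _ => rfl, fun _ => rfl⟩
  rw [h2, ← Nat.card_eq_fintype_card, Nat.card_coe_set_eq] at h1
  exact h1

end Cfsg.Agent.H659.TF.A2
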