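import Cfsg.Agent.H745.TF.EssStmts
import Cfsg.Agent.H752.TF.Co

/-!
# S5262 (ESS2): an essential subgroup containing `V` contains `Y` (helper659)

`stEss2_of (hp2 : StP2) (hhull : StHull) (hcj : StConj) (hinv : StInv) (hord : StOrd) : StEss2`.
-/

set_option autoImplicit false
set_option linter.unusedVariables false
set_option linter.unusedSimpArgs false

namespace Cfsg.Agent.H659.TF.Ess

open Cfsg Cfsg.FusionSystem Cfsg.Agent.Octagon.Pkg Cfsg.Agent.H745.TF Cfsg.Agent.H756.PU Cfsg.Agent.H802.TE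
  Cfsg.Agent.H752.TF

universe u v

section

variable {K : Type u} [Field K] {σ : K →+* K} {m : ℕ} (hK : HypK σ m)
variable {U : Type v} [Group U] (T : TF σ U)

include hK

/-- the coordinates of a commutator -/
theorem co_comm' {g h : U} {v : Cd K}
    (e : H181.TF.mul σ (co T g) (co T h) = H181.TF.mul σ v (H181.TF.mul σ (co T h) (co T g))) :
    co T (g * h * g⁻¹ * h⁻¹) = v := by
  have h1 : g * h = T.el v * (h * g) := by
    apply co_injective T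
    rw [co_mul hK, co_mul hK, co_mul hK, co_el, e]
  have h2 : g * h * g⁻¹ * h⁻¹ = T.el v := by
    rw [h1]
    group
  rw [h2, co_el]

/-- `[U, Y]` -/
theorem comm_U_Y {x y : U} (hy : y ∈ T.Y) :
    co T (x * y * x⁻¹ * y⁻¹) =
      ⟨0, 0, 0, 0, 0, (co T y).a5 * (co T x).a2 + (co T y).b6 * (co T x).a1 + (co T x).a8 * (co T y).a5 * (co T x).a1,
        0, 0, (co T x).a8 * (co T y).a5, 0, 0, 0⟩ := by
  apply co_comm' hK
  rw [mem_Y hK] at hy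
  have h2 := hK.two
  generalize co T x = c
  generalize co T y = d at hy ⊢
  obtain ⟨d1, d2, d3, d4, d5, d6, d7, d8, d9⟩ := hy
  ext <;> simp only [mul_a1, mul_a2, mul_b2, mul_a3, mul_a4, mul_b4, mul_a5, mul_a6, mul_b6, mul_a7, mul_a8, mul_b8,
    d1, d2, d3, d4, d5, d6, d7, d8, d9, zero_mul, mul_zero, add_zero, zero_add, map_zero, pow_zero, ne_eq,
    OfNat.ofNat_ne_zero, not_false_eq_true, zero_pow]
  · linear_combination (-(d.a5 * c.a2) - d.b6 * c.a1 - c.a8 * d.a5 * c.a1) * h2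
  all_goals ring

theorem mem_Z4' {g : U} : g ∈ T.Z4 ↔ (co T g).a1 = 0 ∧ (co T g).a2 = 0 ∧ (co T g).b2 = 0 ∧ (co T g).a3 = 0 ∧
    (co T g).a4 = 0 ∧ (co T g).a5 = 0 ∧ (co T g).a6 = 0 ∧ (co T g).b6 = 0 ∧ (co T g).a7 = 0 ∧ (co T g).a8 = 0 ∧
    (co T g).b8 = 0 := by
  rw [mem_Z4 hK]
  constructor
  · rintro ⟨u, rfl⟩
    rw [co_x4]
    exact ⟨rfl, rfl, rfl, rfl, rfl, rfl, rfl, rfl, rfl, rfl, rfl⟩
  · rintro ⟨z0, z1, z2, z3, z4, z5, z6, z7, z8, z9, z10⟩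
    refine ⟨(co T g).b4, ?_⟩
    rw [← el_e4, ← el_co T g]
    congr 1
    rw [co_el]
    exact Cd.ext z0 z1 z2 z3 z4 rfl z5 z6 z7 z8 z9 z10

theorem comm_mem_V {x y : U} (hy : y ∈ T.Y) : x * y * x⁻¹ * y⁻¹ ∈ T.V := by
  rw [mem_V hK, comm_U_Y hK T hy]
  exact ⟨rfl, rfl, rfl, rfl, rfl, rfl, rfl, rfl, rfl, rfl⟩

theorem comm_mem_Z4 {x y : U} (hy : y ∈ T.V) : x * y * x⁻¹ * y⁻¹ ∈ T.Z4 := by
  have h5 : (co T y).a5 = 0 := ((mem_V hK T).1 hy).2.2.2.2.2.1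
  rw [mem_Z4' hK, comm_U_Y hK T (V_le_Y hK T hy)]
  exact ⟨rfl, rfl, rfl, rfl, rfl, rfl, rfl, by simp [h5], rfl, rfl, rfl⟩

theorem sq_V {y : U} (hy : y ∈ T.V) : y * y = 1 := by
  apply co_injective T
  rw [co_mul hK, co_one]
  rw [mem_V hK] at hy
  have h2 := hK.two
  generalize co T y = d at hy ⊢
  obtain ⟨d1, d2, d3, d4, d5, d6, d7, d8, d9, d10⟩ := hy
  ext <;> simp only [mul_a1, mul_a2, mul_b2, mul_a3, mul_a4, mul_b4, mul_a5, mul_a6, mul_b6, mul_a7, mul_a8, mul_b8,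
    d1, d2, d3, d4, d5, d6, d7, d8, d9, d10, zero_mul, mul_zero, add_zero, zero_add, map_zero, pow_zero, ne_eq,
    OfNat.ofNat_ne_zero, not_false_eq_true, zero_pow]
  · linear_combination d.b4 * h2
  · linear_combination d.b6 * h2

/-- elements of `N3` commute with `Y` -/
theorem N3_comm_Y {n y : U} (hn : n ∈ T.N3) (hy : y ∈ T.Y) : n * y * n⁻¹ * y⁻¹ = 1 := by
  apply co_injective T
  rw [comm_U_Y hK T hy, co_one]
  rw [mem_N3 hK] at hn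
  obtain ⟨h1, h2, h3⟩ := hn
  simp [h1, h2, h3]

/-- `{r : [r, x1 t] ∈ Z4}` -/
theorem cond_C {r : U} {t : K} (ht : t ≠ 0) (h : r * T.x1 t * r⁻¹ * (T.x1 t)⁻¹ ∈ T.Z4) :
    (co T r).a4 = 0 ∧ (co T r).a6 = 0 ∧ (co T r).a7 = 0 ∧ (co T r).a8 = 0 ∧ (co T r).b8 = 0 := by
  obtain ⟨w, hw⟩ := (mem_Z4 hK T).1 h
  have e : co T (T.x4 0 w * (T.x1 t * r)) = co T (r * T.x1 t) := by
    rw [← hw]
    congr 1
    group
  rw [co_mul hK, co_mul hK, co_mul hK, co_x4, co_x1] at e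
  generalize co T r = c at e ⊢
  have hst : σ t ≠ 0 := (map_ne_zero σ).2 ht
  have f2 := congrArg Cd.a2 e
  simp only [mul_a2, mul_a1, mul_a8, e1, e4, zero_mul, mul_zero, add_zero, zero_add, map_zero] at f2
  have c8 : c.a8 = 0 := by
    have : c.a8 * t = 0 := by linear_combination -f2
    exact (mul_eq_zero.1 this).resolve_right ht
  have f4 := congrArg Cd.a4 e
  simp only [mul_a4, mul_a2, mul_a1, mul_a8, mul_b8, e1, e4, c8, zero_mul, mul_zero, add_zero, zero_add, map_zero] at f4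
  have d8 : c.b8 = 0 := by
    have : c.b8 * σ t = 0 := by linear_combination -f4
    exact (mul_eq_zero.1 this).resolve_right hst
  have f5 := congrArg Cd.a5 e
  simp only [mul_a5, mul_a7, mul_a6, mul_b2, mul_a3, mul_a4, mul_a2, mul_a1, mul_a8, mul_b8, e1, e4, c8, d8, zero_mul,
    mul_zero, add_zero, zero_add, map_zero, pow_zero, ne_eq, OfNat.ofNat_ne_zero, not_false_eq_true, zero_pow] at f5
  have c7 : c.a7 = 0 := by
    have : σ c.a7 * t = 0 := by linear_combination -f5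
    exact (map_eq_zero σ).1 ((mul_eq_zero.1 this).resolve_right ht)
  have f3 := congrArg Cd.a3 e
  simp only [mul_a7, mul_a6, mul_b2, mul_a3, mul_a4, mul_a2, mul_a1, mul_a8, mul_b8, e1, e4, c8, d8, c7, zero_mul,
    mul_zero, add_zero, zero_add, map_zero, pow_zero, ne_eq, OfNat.ofNat_ne_zero, not_false_eq_true, zero_pow] at f3
  have c6 : c.a6 = 0 := by
    have : σ c.a6 * t = 0 := by linear_combination -f3
    exact (map_eq_zero σ).1 ((mul_eq_zero.1 this).resolve_right ht)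
  have f1 := congrArg Cd.b2 e
  simp only [mul_a7, mul_a6, mul_b2, mul_a3, mul_a4, mul_a2, mul_a1, mul_a8, mul_b8, e1, e4, c8, d8, c7, c6, zero_mul,
    mul_zero, add_zero, zero_add, map_zero, pow_zero, ne_eq, OfNat.ofNat_ne_zero, not_false_eq_true, zero_pow] at f1
  have c4 : c.a4 = 0 := by
    have : c.a4 * t = 0 := by linear_combination -f1
    exact (mul_eq_zero.1 this).resolve_right ht
  exact ⟨c4, c6, c7, c8, d8⟩

/-- `Z2 X3 Z4` -/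
theorem exists_W : ∃ W : Subgroup U, (∀ g, g ∈ W ↔ (co T g).a1 = 0 ∧ (co T g).a2 = 0 ∧ (co T g).a4 = 0 ∧
    (co T g).a5 = 0 ∧ (co T g).a6 = 0 ∧ (co T g).b6 = 0 ∧ (co T g).a7 = 0 ∧ (co T g).a8 = 0 ∧ (co T g).b8 = 0) ∧
    Nat.card W = (2 ^ (2 * m + 1)) ^ 3 := by
  obtain ⟨S, hS⟩ := exists_sub hK T (fun c => c.a1 = 0 ∧ c.a2 = 0 ∧ c.a4 = 0 ∧ c.a5 = 0 ∧ c.a6 = 0 ∧ c.b6 = 0 ∧
    c.a7 = 0 ∧ c.a8 = 0 ∧ c.b8 = 0) (⟨rfl, rfl, rfl, rfl, rfl, rfl, rfl, rfl, rfl⟩) (by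
    rintro c d ⟨hc0, hc1, hc2, hc3, hc4, hc5, hc6, hc7, hc8⟩ ⟨hd0, hd1, hd2, hd3, hd4, hd5, hd6, hd7, hd8⟩
    refine ⟨?_, ?_, ?_, ?_, ?_, ?_, ?_, ?_, ?_⟩ <;>
      simp only [mul_a1, mul_a2, mul_a4, mul_a5, mul_a6, mul_b6, mul_a7, mul_a8, mul_b8, hc0, hc1, hc2, hc3, hc4, hc5,
        hc6, hc7, hc8, hd0, hd1, hd2, hd3, hd4, hd5, hd6, hd7, hd8, zero_mul, mul_zero, add_zero, zero_add, map_zero,
        pow_zero, ne_eq, OfNat.ofNat_ne_zero, not_false_eq_true, zero_pow])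
  refine ⟨S, hS, ?_⟩
  refine card_of_mask hK T ![false, false, true, true, false, true, false, false, false, false, false, false] (by rfl)
    S fun g => ?_
  rw [hS]
  constructor
  · rintro ⟨z0, z1, z2, z3, z4, z5, z6, z7, z8⟩ i hi
    fin_cases i <;> first | exact z0 | exact z1 | exact z2 | exact z3 | exact z4 | exact z5 | exact z6 | exact z7 | exact z8 | exact absurd hi (by decide)
  · intro h
    exact ⟨h 0 rfl, h 1 rfl, h 4 rfl, h 6 rfl, h 7 rfl, h 8 rfl, h 9 rfl, h 10 rfl, h 11 rfl⟩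

/-- `X4 X5 X6` -/
theorem exists_A : ∃ A : Subgroup U, (∀ g, g ∈ A ↔ (co T g).a1 = 0 ∧ (co T g).a2 = 0 ∧ (co T g).b2 = 0 ∧
    (co T g).a3 = 0 ∧ (co T g).a7 = 0 ∧ (co T g).a8 = 0 ∧ (co T g).b8 = 0) ∧
    Nat.card A = (2 ^ (2 * m + 1)) ^ 5 := by
  obtain ⟨S, hS⟩ := exists_sub hK T (fun c => c.a1 = 0 ∧ c.a2 = 0 ∧ c.b2 = 0 ∧ c.a3 = 0 ∧ c.a7 = 0 ∧ c.a8 = 0 ∧
    c.b8 = 0) (⟨rfl, rfl, rfl, rfl, rfl, rfl, rfl⟩) (by
    rintro c d ⟨hc0, hc1, hc2, hc3, hc4, hc5, hc6⟩ ⟨hd0, hd1, hd2, hd3, hd4, hd5, hd6⟩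
    refine ⟨?_, ?_, ?_, ?_, ?_, ?_, ?_⟩ <;>
      simp only [mul_a1, mul_a2, mul_b2, mul_a3, mul_a7, mul_a8, mul_b8, hc0, hc1, hc2, hc3, hc4, hc5,
        hc6, hd0, hd1, hd2, hd3, hd4, hd5, hd6, zero_mul, mul_zero, add_zero, zero_add, map_zero,
        pow_zero, ne_eq, OfNat.ofNat_ne_zero, not_false_eq_true, zero_pow])
  refine ⟨S, hS, ?_⟩
  refine card_of_mask hK T ![false, false, false, false, true, true, true, true, true, false, false, false] (by rfl)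
    S fun g => ?_
  rw [hS]
  constructor
  · rintro ⟨z0, z1, z2, z3, z4, z5, z6⟩ i hi
    fin_cases i <;> first | exact z0 | exact z1 | exact z2 | exact z3 | exact z4 | exact z5 | exact z6 | exact absurd hi (by decide)
  · intro h
    exact ⟨h 0 rfl, h 1 rfl, h 2 rfl, h 3 rfl, h 9 rfl, h 10 rfl, h 11 rfl⟩

/-- `Z2 X3 Z4` centralizes `X1 X2 X3 Z4 X5 Z6` -/
theorem W_comm {w c : U} (hw : (co T w).a1 = 0 ∧ (co T w).a2 = 0 ∧ (co T w).a4 = 0 ∧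
    (co T w).a5 = 0 ∧ (co T w).a6 = 0 ∧ (co T w).b6 = 0 ∧ (co T w).a7 = 0 ∧ (co T w).a8 = 0 ∧ (co T w).b8 = 0)
    (hc : (co T c).a4 = 0 ∧ (co T c).a6 = 0 ∧ (co T c).a7 = 0 ∧ (co T c).a8 = 0 ∧ (co T c).b8 = 0) : w * c = c * w := by
  apply co_injective T
  rw [co_mul hK, co_mul hK]
  generalize co T w = z at hw ⊢
  generalize co T c = d at hc ⊢
  obtain ⟨hc0, hc1, hc2, hc3, hc4, hc5, hc6, hc7, hc8⟩ := hw
  obtain ⟨d4, d6, d7, d8, d9⟩ := hc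
  ext <;> simp only [mul_a1, mul_a2, mul_b2, mul_a3, mul_a4, mul_b4, mul_a5, mul_a6, mul_b6, mul_a7, mul_a8, mul_b8,
    hc0, hc1, hc2, hc3, hc4, hc5, hc6, hc7, hc8, d4, d6, d7, d8, d9, zero_mul, mul_zero, add_zero, zero_add, map_zero,
    pow_zero, ne_eq, OfNat.ofNat_ne_zero, not_false_eq_true, zero_pow]
  all_goals ring

/-- `[X4 X5 X6, X1 X2 X3 Z4 X5 Z6] ≤ Z2 X3 Z4` -/
theorem comm_A_C {a c : U} (ha : (co T a).a1 = 0 ∧ (co T a).a2 = 0 ∧ (co T a).b2 = 0 ∧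
    (co T a).a3 = 0 ∧ (co T a).a7 = 0 ∧ (co T a).a8 = 0 ∧ (co T a).b8 = 0)
    (hc : (co T c).a4 = 0 ∧ (co T c).a6 = 0 ∧ (co T c).a7 = 0 ∧ (co T c).a8 = 0 ∧ (co T c).b8 = 0) :
    co T (a * c * a⁻¹ * c⁻¹) = ⟨0, 0, (co T a).a4 * (co T c).a1 + (co T a).a6 * σ (co T c).a1,
      (co T a).a4 * (co T c).a2 + σ (co T a).a6 * (co T c).a1, 0,
      (co T a).a5 * (co T c).a2 + (co T a).a6 * (co T c).a3 + (co T a).b6 * (co T c).a1, 0, 0, 0, 0, 0, 0⟩ := by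
  apply co_comm' hK
  have h2 := hK.two
  generalize co T a = z at ha ⊢
  generalize co T c = d at hc ⊢
  obtain ⟨hc0, hc1, hc2, hc3, hc4, hc5, hc6⟩ := ha
  obtain ⟨d4, d6, d7, d8, d9⟩ := hc
  ext <;> simp only [mul_a1, mul_a2, mul_b2, mul_a3, mul_a4, mul_b4, mul_a5, mul_a6, mul_b6, mul_a7, mul_a8, mul_b8,
    hc0, hc1, hc2, hc3, hc4, hc5, hc6, d4, d6, d7, d8, d9, zero_mul, mul_zero, add_zero, zero_add, map_zero,
    pow_zero, ne_eq, OfNat.ofNat_ne_zero, not_false_eq_true, zero_pow]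
  all_goals ring

end

theorem norm_of_comm {G : Type*} [Group G] {A R : Subgroup G} (h : ∀ a ∈ A, ∀ e ∈ R, a * e * a⁻¹ * e⁻¹ ∈ R) :
    A ≤ normalizerIn ⊤ R := by
  intro x hx
  refine Subgroup.mem_inf.2 ⟨Subgroup.mem_top _, ?_⟩
  have h1 : ∀ w ∈ A, ∀ e ∈ R, w * e * w⁻¹ ∈ R := by
    intro w hw e he
    have h2 : w * e * w⁻¹ = w * e * w⁻¹ * e⁻¹ * e := by group
    rw [h2]
    exact R.mul_mem (h w hw e he) he
  rw [Subgroup.mem_normalizer_iff]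
  intro e
  refine ⟨h1 x hx e, fun h => ?_⟩
  have h2 := h1 x⁻¹ (A.inv_mem hx) _ h
  rwa [inv_inv, ← mul_assoc, ← mul_assoc, inv_mul_cancel, one_mul, inv_mul_cancel_right] at h2

theorem relc' {G : Type*} [Group G] {A B : Subgroup G} (h : A ≤ B) : A.relIndex B * Nat.card A = Nat.card B := by
  rw [← Subgroup.card_mul_index (A.subgroupOf B), Subgroup.relIndex, mul_comm,
    Nat.card_congr (Subgroup.subgroupOfEquivOfLe h).toEquiv]

section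

variable {K : Type u} [Field K] {σ : K →+* K} {m : ℕ} (hK : HypK σ m)
variable {U : Type v} [Group U] (T : TF σ U)

include hK

/-- the situation after conjugation -/
theorem core (hp2 : StP2.{v}) {R : Subgroup U} {Γ : Subgroup (MulAut R)} (hE : Ess (⊤ : Subgroup U) R 2 Γ)
    (hV : T.V ≤ R) (hY : ¬ T.Y ≤ R) {t : K} (ht : t ≠ 0)
    (hx : ∀ r ∈ R, r * T.x1 t * r⁻¹ * (T.x1 t)⁻¹ ∈ T.Z4) : False := by
  haveI := finite_U hK T
  have hC := fun r hr => cond_C hK T ht (hx r hr)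
  obtain ⟨W, hW, cW⟩ := exists_W hK T
  obtain ⟨A, hA, cA⟩ := exists_A hK T
  have hZV : T.Z4 ≤ T.V := Z4_le_V T
  have hWR : W ≤ R := fun w hw => hE.cent w trivial fun e he => W_comm hK T ((hW w).1 hw) (hC e he)
  have hcA : ∀ a ∈ A, ∀ e ∈ R, a * e * a⁻¹ * e⁻¹ ∈ W := by
    intro a ha e he
    rw [hW, comm_A_C hK T ((hA a).1 ha) (hC e he)]
    exact ⟨rfl, rfl, rfl, rfl, rfl, rfl, rfl, rfl, rfl⟩
  have hcY : ∀ y ∈ T.Y, ∀ e ∈ R, y * e * y⁻¹ * e⁻¹ ∈ T.Z4 := by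
    intro y hy e he
    have h1 : y * e * y⁻¹ * e⁻¹ = (e * y * e⁻¹ * y⁻¹)⁻¹ := by group
    rw [h1]
    refine T.Z4.inv_mem ?_
    rw [mem_Z4' hK, comm_U_Y hK T hy, (hC e he).2.2.2.1]
    exact ⟨rfl, rfl, rfl, rfl, rfl, rfl, rfl, zero_mul _, rfl, rfl, rfl⟩
  have hnA : A ≤ normalizerIn ⊤ R := norm_of_comm fun a ha e he => hWR (hcA a ha e he)
  have hnY : T.Y ≤ normalizerIn ⊤ R := norm_of_comm fun a ha e he => hV (hZV (hcY a ha e he))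
  have hAR : R ⊓ A ≤ R ⊓ T.Y := by
    intro a ha
    obtain ⟨h1, h2⟩ := ha
    refine ⟨h1, ?_⟩
    obtain ⟨c4, c6, c7, c8, d8⟩ := hC a h1
    obtain ⟨z0, z1, z2, z3, z4, z5, z6⟩ := (hA a).1 h2
    exact (mem_Y hK T).2 ⟨z0, z1, z2, z3, c4, c6, c7, c8, d8⟩
  have hP := hp2 hE A T.Y W T.Z4 ⊥ ⊥ hnA hnY hY hWR (hZV.trans hV) hcA hcY bot_le bot_le
  rw [Subgroup.relIndex_bot_left, Subgroup.relIndex_bot_left, cW, card_Z4 hK] at hP
  have c1 := relc' (inf_le_right : R ⊓ A ≤ A)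
  rw [Subgroup.inf_relIndex_right, cA] at c1
  have c2 := relc' (inf_le_right : R ⊓ T.Y ≤ T.Y)
  rw [Subgroup.inf_relIndex_right, card_Y hK] at c2
  have h2 : 2 ≤ R.relIndex T.Y := by
    have h3 : R.relIndex T.Y ≠ 1 := fun h => hY (Subgroup.relIndex_eq_one.1 h)
    have h4 : R.relIndex T.Y ≠ 0 := by
      intro h
      rw [h, zero_mul] at c2
      exact absurd c2.symm (by positivity)
    omega
  have c3 : Nat.card (R ⊓ A : Subgroup U) ≤ Nat.card (R ⊓ T.Y : Subgroup U) := Subgroup.card_le_of_le hAR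
  set q := 2 ^ (2 * m + 1) with hq
  have hq1 : 0 < q := by positivity
  set i := R.relIndex A
  set j := R.relIndex T.Y
  set a := Nat.card (R ⊓ A : Subgroup U)
  set b := Nat.card (R ⊓ T.Y : Subgroup U)
  have h5 : 2 * a ≤ q ^ 3 := by
    calc 2 * a ≤ j * b := Nat.mul_le_mul h2 c3
      _ = q ^ 3 := c2
  have h6 : 2 * q ^ 2 ≤ i := by
    have h7 : q ^ 3 * (2 * q ^ 2) ≤ q ^ 3 * i := by
      calc q ^ 3 * (2 * q ^ 2) = 2 * (i * a) := by rw [c1]; ring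
        _ = i * (2 * a) := by ring
        _ ≤ i * q ^ 3 := Nat.mul_le_mul_left _ h5
        _ = q ^ 3 * i := mul_comm _ _
    exact Nat.le_of_mul_le_mul_left h7 (by positivity)
  have h8 : (2 * q ^ 2) ^ 2 ≤ q ^ 3 * q := (Nat.pow_le_pow_left h6 2).trans hP
  have h9 : 0 < q ^ 4 := by positivity
  nlinarith

end

/-- **(ESS2)** -/
theorem stEss2_of (hp2 : StP2.{v}) (hhull : StHull.{v}) (hcj : StConj.{v}) (hinv : StInv.{u, v}) (hord : StOrd.{u, v}) :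
    StEss2.{u, v} := by
  intro K _ σ m hK U _ T R Γ hE hV
  by_contra hY
  haveI := finite_U hK T
  haveI := V_normal hK T
  haveI := Y_normal hK T
  have hZV : T.Z4 ≤ T.V := Z4_le_V T
  obtain ⟨γ, hγ, v0, hv0, a, ha, hcon⟩ := hhull hE T.Y T.V le_top hV (fun y hy e _ => by
    have h1 : y * e * y⁻¹ * e⁻¹ = (e * y * e⁻¹ * y⁻¹)⁻¹ := by group
    rw [h1]
    exact T.V.inv_mem (comm_mem_V hK T hy)) hY
  set y : U := ((γ v0 : R) : U) with hy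
  have hyR : y ∈ R := (γ v0).2
  have hyy : y * y = 1 := by
    have h1 : v0 * v0 = 1 := Subtype.ext (sq_V hK T hv0)
    have h2 := congrArg (fun e : R => ((γ e : R) : U)) h1
    simp only [map_mul, map_one, Subgroup.coe_mul, Subgroup.coe_one] at h2
    exact h2
  have hyN : y ∉ T.N3 := by
    intro h
    apply hcon
    have h1 := N3_comm_Y hK T h ha
    have h2 : a * y * a⁻¹ * y⁻¹ = (y * a * y⁻¹ * a⁻¹)⁻¹ := by group
    rw [h2, h1, inv_one]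
    exact (Phi R).one_mem
  have hyB : y ∉ T.QB := fun h => hyN (hord hK T y hyy h)
  have hty : (co T y).a1 ≠ 0 := fun h => hyB ((mem_QB hK T).2 h)
  -- `γ(Z4) = Z4`
  have h1 : ∀ r ∈ R, ∃ z : R, (z : U) ∈ T.Z4 ∧ r * y * r⁻¹ * y⁻¹ = ((γ z : R) : U) := by
    intro r hr
    refine ⟨γ⁻¹ ⟨r, hr⟩ * v0 * (γ⁻¹ ⟨r, hr⟩)⁻¹ * v0⁻¹, ?_, ?_⟩
    · exact comm_mem_Z4 hK T hv0
    · simp only [map_mul, map_inv, MulAut.apply_inv_self]
      rfl
  have h2 : ∀ z ∈ T.Z4, ∃ z' : R, (z' : U) ∈ T.Z4 ∧ z = ((γ z' : R) : U) := by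
    intro z hz
    obtain ⟨w, rfl⟩ := (mem_Z4 hK T).1 hz
    obtain ⟨z', hz', h3⟩ := h1 (T.x6 0 (w * (co T y).a1⁻¹)) (hV (Z6_le_V T (x6_mem_Z T _)))
    refine ⟨z', hz', ?_⟩
    rw [← h3]
    apply co_injective T
    have h4 : T.x6 0 (w * (co T y).a1⁻¹) * y * (T.x6 0 (w * (co T y).a1⁻¹))⁻¹ * y⁻¹ =
        (y * T.x6 0 (w * (co T y).a1⁻¹) * y⁻¹ * (T.x6 0 (w * (co T y).a1⁻¹))⁻¹)⁻¹ := by group
    have h5 := comm_mem_Z4 hK T (x := y) (Z6_le_V T (x6_mem_Z T (w * (co T y).a1⁻¹)))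
    have h6 : (y * T.x6 0 (w * (co T y).a1⁻¹) * y⁻¹ * (T.x6 0 (w * (co T y).a1⁻¹))⁻¹)⁻¹ =
        y * T.x6 0 (w * (co T y).a1⁻¹) * y⁻¹ * (T.x6 0 (w * (co T y).a1⁻¹))⁻¹ :=
      inv_eq_of_mul_eq_one_left (sq_V hK T (hZV h5))
    rw [h4, h6, comm_U_Y hK T (V_le_Y hK T (Z6_le_V T (x6_mem_Z T _))), co_x6, co_x4]
    have e0 : w * (co T y).a1⁻¹ * (co T y).a1 = w := inv_mul_cancel_right₀ hty w
    simp [e4, e6, e0]
  have h3 : ∀ z' : R, (z' : U) ∈ T.Z4 → ((γ z' : R) : U) ∈ T.Z4 := by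
    intro z' hz'
    -- the map `z ↦ z'` is injective on the finite set `Z4`, so surjective
    choose f hf1 hf2 using h2
    let F : T.Z4 → T.Z4 := fun z => ⟨f z z.2, hf1 z z.2⟩
    have hF : Function.Injective F := by
      intro z w hzw
      have h4 : ((f z z.2 : R) : U) = ((f w w.2 : R) : U) := congrArg (fun g : T.Z4 => (g : U)) hzw
      have h5 : f z z.2 = f w w.2 := Subtype.ext h4
      apply Subtype.ext
      rw [hf2 z z.2, hf2 w w.2, h5]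
    obtain ⟨z, hz⟩ := Finite.surjective_of_injective hF ⟨z', hz'⟩
    have h4 : ((f z z.2 : R) : U) = (z' : U) := congrArg (fun g : T.Z4 => (g : U)) hz
    have h5 : f z z.2 = z' := Subtype.ext h4
    rw [← h5, ← hf2 z z.2]
    exact z.2
  have hRy : ∀ r ∈ R, r * y * r⁻¹ * y⁻¹ ∈ T.Z4 := by
    intro r hr
    obtain ⟨z, hz, h4⟩ := h1 r hr
    rw [h4]
    exact h3 z hz
  -- conjugation
  obtain ⟨x, t, ht, hxt⟩ := hinv hK T y hyy hyB
  obtain ⟨Γ', hE'⟩ := hcj hE x trivial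
  have hZn : ∀ z ∈ T.Z4, x * z * x⁻¹ ∈ T.Z4 := by
    intro z hz
    have h4 : x * z * x⁻¹ = (x * z * x⁻¹ * z⁻¹) * z := by group
    rw [h4]
    exact T.Z4.mul_mem (comm_mem_Z4 hK T (hZV hz)) hz
  refine core hK T hp2 hE' ?_ ?_ ht ?_
  · intro v hv
    refine ⟨x⁻¹ * v * x, hV ?_, ?_⟩
    · have := (V_normal hK T).conj_mem v hv x⁻¹
      rwa [inv_inv] at this
    · change x * (x⁻¹ * v * x) * x⁻¹ = v
      group
  · intro h
    apply hY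
    intro w hw
    obtain ⟨r, hr, h4⟩ := h ((Y_normal hK T).conj_mem w hw x)
    have h5 : x * r * x⁻¹ = x * w * x⁻¹ := h4
    have h6 : r = w := by
      have := congrArg (fun g => x⁻¹ * g * x) h5
      simpa [mul_assoc] using this
    rwa [← h6]
  · rintro _ ⟨r, hr, rfl⟩
    rw [← hxt]
    change x * r * x⁻¹ * (x * y * x⁻¹) * (x * r * x⁻¹)⁻¹ * (x * y * x⁻¹)⁻¹ ∈ T.Z4
    have h4 : x * r * x⁻¹ * (x * y * x⁻¹) * (x * r * x⁻¹)⁻¹ * (x * y * x⁻¹)⁻¹ =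
        x * (r * y * r⁻¹ * y⁻¹) * x⁻¹ := by group
    rw [h4]
    exact hZn _ (hRy r hr)

end Cfsg.Agent.H659.TF.Ess
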