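import Cfsg.Agent.H659.TF.Ess6

/-!
# S5262 (ESS5c): an essential subgroup `D ≤ R ≤ QA`, `R ≰ QB`, is `QA` (helper659)

`stEss5c_of (hch : StCh) : StEss5c`.
-/

set_option autoImplicit false
set_option linter.unusedVariables false
set_option linter.unusedSimpArgs false

namespace Cfsg.Agent.H659.TF.Ess

open Cfsg Cfsg.FusionSystem Cfsg.Agent.Octagon.Pkg Cfsg.Agent.H745.TF Cfsg.Agent.H756.PU Cfsg.Agent.H802.TE
  Cfsg.Agent.H752.TF

universe u v

/-- if `Z ⊆ γ(Z)` then `γ(Z) ⊆ Z` -/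
theorem gam_inv {U : Type v} [Group U] [Finite U] {R Z : Subgroup U} {γ : MulAut R}
    (h2 : ∀ z ∈ Z, ∃ z' : R, (z' : U) ∈ Z ∧ z = ((γ z' : R) : U)) : ∀ z' : R, (z' : U) ∈ Z → ((γ z' : R) : U) ∈ Z := by
  intro z' hz'
  choose f hf1 hf2 using h2
  let F : Z → Z := fun z => ⟨f z z.2, hf1 z z.2⟩
  have hF : Function.Injective F := by
    intro z w hzw
    have h4 : ((f z z.2 : R) : U) = ((f w w.2 : R) : U) := congrArg (fun g : Z => (g : U)) hzw
    have h5 : f z z.2 = f w w.2 := Subtype.ext h4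
    apply Subtype.ext
    rw [hf2 z z.2, hf2 w w.2, h5]
  obtain ⟨z, hz⟩ := Finite.surjective_of_injective hF ⟨z', hz'⟩
  have h4 : ((f z z.2 : R) : U) = (z' : U) := congrArg (fun g : Z => (g : U)) hz
  have h5 : f z z.2 = z' := Subtype.ext h4
  rw [← h5, ← hf2 z z.2]
  exact z.2

section

variable {K : Type u} [Field K] {σ : K →+* K} {m : ℕ} (hK : HypK σ m)
variable {U : Type v} [Group U] (T : TF σ U)

include hK

/-- `[QA, E]` -/
theorem comm_QA_E {x y : U} (hx : x ∈ T.QA) (hy : y ∈ T.E) :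
    co T (x * y * x⁻¹ * y⁻¹) = ⟨0, 0, 0, 0, 0, (co T x).a7 * (co T y).b2 + (co T x).a6 * (co T y).a3 +
      (co T x).a2 * (co T y).a5 + (co T x).a1 * (co T y).b6, 0, 0, 0, 0, 0, 0⟩ := by
  apply co_comm' hK
  rw [mem_QA hK] at hx
  rw [mem_E hK] at hy
  have h2 := hK.two
  generalize co T x = c at hx ⊢
  generalize co T y = d at hy ⊢
  obtain ⟨c1, c2⟩ := hx
  obtain ⟨d1, d2, d3, d4, d5, d6, d7⟩ := hy
  ext <;> simp only [mul_a1, mul_a2, mul_b2, mul_a3, mul_a4, mul_b4, mul_a5, mul_a6, mul_b6, mul_a7, mul_a8, mul_b8,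
    c1, c2, d1, d2, d3, d4, d5, d6, d7, zero_mul, mul_zero, add_zero, zero_add, map_zero, pow_zero, ne_eq,
    OfNat.ofNat_ne_zero, not_false_eq_true, zero_pow]
  · ring
  · ring
  · linear_combination (-(c.a2 * d.a5) - c.a1 * d.b6) * h2
  all_goals ring

theorem comm_QA_E' {x y : U} (hx : x ∈ T.QA) (hy : y ∈ T.E) : x * y * x⁻¹ * y⁻¹ ∈ T.Z4 := by
  rw [mem_Z4' hK, comm_QA_E hK T hx hy]
  exact ⟨rfl, rfl, rfl, rfl, rfl, rfl, rfl, rfl, rfl, rfl, rfl⟩

/-- `[QA, QA] ≤ E` -/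
theorem comm_QA_QA {x y : U} (hx : x ∈ T.QA) (hy : y ∈ T.QA) : x * y * x⁻¹ * y⁻¹ ∈ T.E := by
  rw [mem_QA hK] at hx hy
  obtain ⟨c1, c2⟩ := hx
  obtain ⟨d1, d2⟩ := hy
  rw [mem_E hK, comm_shape hK T rfl rfl]
  · exact ⟨rfl, rfl, rfl, rfl, rfl, rfl, rfl⟩
  all_goals
    generalize co T x = c at c1 c2 ⊢
    generalize co T y = d at d1 d2 ⊢
    simp only [mul_a1, mul_a2, mul_a4, mul_a6, mul_a7, mul_a8, mul_b8, c1, c2, d1, d2, zero_mul, mul_zero,
      add_zero, zero_add, map_zero, pow_zero, ne_eq, OfNat.ofNat_ne_zero, not_false_eq_true, zero_pow]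
    try ring

/-- if `y ∈ QA` and `[x4 1, y] ∈ Z4` then `y ∈ D` -/
theorem mem_D_of_comm {y : U} (hy : y ∈ T.QA) (h : T.x4 1 0 * y * (T.x4 1 0)⁻¹ * y⁻¹ ∈ T.Z4) : y ∈ T.D := by
  have hx := X4_le_QA T (x4_mem T 1 0)
  rw [mem_Z4' hK] at h
  rw [mem_QA hK] at hy
  obtain ⟨d1, d2⟩ := hy
  rw [comm_shape hK T rfl rfl] at h
  · obtain ⟨-, -, h2, h3, -, h5, -, h6, -⟩ := h
    change _ - _ = (0 : K) at h2
    change _ - _ = (0 : K) at h3
    change _ - _ = (0 : K) at h5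
    change _ - _ = (0 : K) at h6
    rw [co_x4] at h2 h3 h5 h6
    rw [mem_D hK]
    generalize co T y = d at d1 d2 h2 h3 h5 h6 ⊢
    simp only [mul_b2, mul_a3, mul_a5, mul_b6, e4, d1, d2, one_mul, mul_one, map_one, zero_mul, mul_zero, add_zero,
      zero_add, map_zero, pow_zero, ne_eq, OfNat.ofNat_ne_zero, not_false_eq_true, zero_pow] at h2 h3 h5 h6
    exact ⟨by linear_combination h2, by linear_combination h3, by linear_combination -h5, by linear_combination -h6,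
      d1, d2⟩
  all_goals
    rw [co_x4]
    generalize co T y = d at d1 d2 ⊢
    simp only [mul_a1, mul_a2, mul_a4, mul_a6, mul_a7, mul_a8, mul_b8, e4, d1, d2, zero_mul, mul_zero,
      add_zero, zero_add, map_zero, pow_zero, ne_eq, OfNat.ofNat_ne_zero, not_false_eq_true, zero_pow]
    try ring

/-- for `y ∈ QA∖D`, `[y, E] = Z4` -/
theorem exists_E {y : U} (hy : y ∈ T.QA) (hyD : y ∉ T.D) (w : K) : ∃ e ∈ T.E, y * e * y⁻¹ * e⁻¹ = T.x4 0 w := by
  have key : ∀ e ∈ T.E, (co T y).a7 * (co T e).b2 + (co T y).a6 * (co T e).a3 +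
      (co T y).a2 * (co T e).a5 + (co T y).a1 * (co T e).b6 = w → ∃ e ∈ T.E, y * e * y⁻¹ * e⁻¹ = T.x4 0 w := by
    intro e he h
    refine ⟨e, he, co_injective T ?_⟩
    rw [comm_QA_E hK T hy he, h, co_x4]
    rfl
  by_cases h1 : (co T y).a1 = 0
  · by_cases h2 : (co T y).a2 = 0
    · by_cases h6 : (co T y).a6 = 0
      · by_cases h7 : (co T y).a7 = 0
        · exact absurd ((mem_D hK T).2 ⟨h1, h2, h6, h7, ((mem_QA hK T).1 hy).1, ((mem_QA hK T).1 hy).2⟩) hyD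
        · refine key (T.x2 0 ((co T y).a7⁻¹ * w)) (Z2_le_E T (x2_mem_Z T _)) ?_
          rw [co_x2]
          simp [e2, h7]
      · refine key (T.x3 ((co T y).a6⁻¹ * w)) (X3_le_E T (x3_mem T _)) ?_
        rw [co_x3]
        simp [e3, h6]
    · refine key (T.x5 ((co T y).a2⁻¹ * w)) (X5_le_E T (x5_mem T _)) ?_
      rw [co_x5]
      simp [e5, h2]
  · refine key (T.x6 0 ((co T y).a1⁻¹ * w)) (Z6_le_E T (x6_mem_Z T _)) ?_
    rw [co_x6]
    simp [e6, h1]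

/-- an involution of `D` lies in `E` -/
theorem mem_E_of_sq {y : U} (hy : y ∈ T.D) (h : y * y = 1) : y ∈ T.E := by
  have h1 := congrArg (co T) h
  rw [co_mul hK, co_one] at h1
  rw [mem_D hK] at hy
  rw [mem_E hK]
  have h2 := hK.two
  generalize co T y = d at hy h1 ⊢
  obtain ⟨d1, d2, d3, d4, d5, d6⟩ := hy
  have h3 := congrArg Cd.b4 h1
  simp only [mul_b4, d1, d2, d3, d4, d5, d6, zero_mul, mul_zero, add_zero,
    zero_add, map_zero, pow_zero, ne_eq, OfNat.ofNat_ne_zero, not_false_eq_true, zero_pow] at h3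
  have h4 : d.a4 * σ d.a4 = 0 := by linear_combination h3 - d.b4 * h2
  have h5 : d.a4 = 0 := by
    rcases mul_eq_zero.1 h4 with h6 | h6
    · exact h6
    · exact (map_eq_zero σ).1 h6
  exact ⟨d1, d2, h5, d3, d4, d5, d6⟩

end

/-- **(ESS5c)** -/
theorem stEss5c_of (hch : StCh.{v}) : StEss5c.{u, v} := by
  intro K _ σ m hK U _ T R Γ hE hD hQA hQB
  haveI := finite_U hK T
  have hER : T.E ≤ R := (E_le_D hK T).trans hD
  have hZE : T.Z4 ≤ T.E := Z4_le_E T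
  -- `E` is invariant
  have hinvE : Inv Γ T.E := by
    refine ⟨hER, fun γ hγ e he => ?_⟩
    have hyR : ((γ e : R) : U) ∈ R := (γ e).2
    have hyQ : ((γ e : R) : U) ∈ T.QA := hQA hyR
    have hyy : ((γ e : R) : U) * ((γ e : R) : U) = 1 := by
      have h1 : e * e = 1 := Subtype.ext (sq_E hK T he)
      have h2 := congrArg (fun e : R => ((γ e : R) : U)) h1
      simp only [map_mul, map_one, Subgroup.coe_mul, Subgroup.coe_one] at h2
      exact h2
    have h1 : ∀ r ∈ R, ∃ z : R, (z : U) ∈ T.Z4 ∧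
        r * ((γ e : R) : U) * r⁻¹ * ((γ e : R) : U)⁻¹ = ((γ z : R) : U) := by
      intro r hr
      refine ⟨γ⁻¹ ⟨r, hr⟩ * e * (γ⁻¹ ⟨r, hr⟩)⁻¹ * e⁻¹, ?_, ?_⟩
      · exact comm_QA_E' hK T (hQA (γ⁻¹ ⟨r, hr⟩).2) he
      · simp only [map_mul, map_inv, MulAut.apply_inv_self]
        rfl
    by_cases hyD : ((γ e : R) : U) ∈ T.D
    · exact mem_E_of_sq hK T hyD hyy
    · exfalso
      have h2 : ∀ z ∈ T.Z4, ∃ z' : R, (z' : U) ∈ T.Z4 ∧ z = ((γ z' : R) : U) := by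
        intro z hz
        obtain ⟨w, rfl⟩ := (mem_Z4 hK T).1 hz
        obtain ⟨e', he', h3⟩ := exists_E hK T hyQ hyD w
        obtain ⟨z', hz', h4⟩ := h1 e' (hER he')
        refine ⟨z'⁻¹, T.Z4.inv_mem hz', ?_⟩
        have h5 : ((γ e : R) : U) * e' * ((γ e : R) : U)⁻¹ * e'⁻¹ =
            (e' * ((γ e : R) : U) * e'⁻¹ * ((γ e : R) : U)⁻¹)⁻¹ := by group
        rw [← h3, h5, h4, map_inv]
        rfl
      have h3 := gam_inv h2
      apply hyD
      apply mem_D_of_comm hK T hyQ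
      obtain ⟨z, hz, h4⟩ := h1 (T.x4 1 0) (hD (X4_le_D T (x4_mem T 1 0)))
      rw [h4]
      exact h3 z hz
  -- `Z4` is invariant
  obtain ⟨r, hr, hrB⟩ := SetLike.not_le_iff_exists.1 hQB
  have hrD : r ∉ T.D := fun h => hrB (D_le_QB hK T h)
  have hinvZ : Inv Γ T.Z4 := by
    refine ⟨hZE.trans hER, fun γ hγ z hz => ?_⟩
    obtain ⟨w, hw⟩ := (mem_Z4 hK T).1 hz
    obtain ⟨e, he, h1⟩ := exists_E hK T (hQA hr) hrD w
    have h2 : z = ⟨r, hr⟩ * ⟨e, hER he⟩ * (⟨r, hr⟩ : R)⁻¹ * (⟨e, hER he⟩ : R)⁻¹ := by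
      apply Subtype.ext
      rw [hw]
      exact h1.symm
    rw [h2]
    simp only [map_mul, map_inv]
    exact comm_QA_E' hK T (hQA (γ ⟨r, hr⟩).2) (hinvE.2 γ hγ ⟨e, hER he⟩ he)
  -- the chain
  refine le_antisymm hQA ?_
  refine hch hE 3 (fun i => match i with | 0 => ⊥ | 1 => T.Z4 | 2 => T.E | _ => R) bot_le rfl ?_ ?_ T.QA le_top ?_
  · intro i hi
    interval_cases i
    · refine ⟨bot_le, fun γ _ e he => ?_⟩
      have h1 : e = 1 := Subtype.ext (Subgroup.mem_bot.1 he)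
      rw [h1, map_one]
      exact Subgroup.one_mem _
    · exact hinvZ
    · exact hinvE
    · exact ⟨le_rfl, fun γ _ e _ => (γ e).2⟩
  · intro i hi
    interval_cases i
    · exact bot_le
    · exact hZE
    · exact hER
  · intro i hi
    interval_cases i
    · intro x hx z hz
      have h1 : co T (x * z * x⁻¹ * z⁻¹) = co T 1 := by
        have hz' := (mem_Z4' hK T).1 hz
        rw [comm_QA_E hK T hx (hZE hz), co_one]
        obtain ⟨z1, z2, z3, z4, z5, z6, z7, z8, z9, z10, z11⟩ := hz'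
        simp [z3, z4, z6, z8]
      exact Subgroup.mem_bot.2 (co_injective T h1)
    · intro x hx z hz
      exact comm_QA_E' hK T hx hz
    · intro x hx z hz
      exact comm_QA_QA hK T hx (hQA hz)

end Cfsg.Agent.H659.TF.Ess
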