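import Cfsg.Agent.H659.TF.Ess2
import Cfsg.Agent.H745.TF.EssStmts3

/-!
# S5262 (ESS6a), (ESS6b): mixed essential subgroups contain `E4`, `D` (helper659)
-/

set_option autoImplicit false
set_option linter.unusedVariables false
set_option linter.unusedSimpArgs false

namespace Cfsg.Agent.H659.TF.Ess

open Cfsg Cfsg.FusionSystem Cfsg.Agent.Octagon.Pkg Cfsg.Agent.H745.TF Cfsg.Agent.H756.PU Cfsg.Agent.H802.TE
  Cfsg.Agent.H752.TF

universe u v

section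

variable {K : Type u} [Field K] {σ : K →+* K} {m : ℕ} (hK : HypK σ m)
variable {U : Type v} [Group U] (T : TF σ U)

include hK

/-- a commutator lying in `E` -/
theorem comm_shape {x y : U} {P Q : Cd K} (hP : H181.TF.mul σ (co T x) (co T y) = P)
    (hQ : H181.TF.mul σ (co T y) (co T x) = Q) (h1 : P.a1 = Q.a1) (h2 : P.a2 = Q.a2) (h4 : P.a4 = Q.a4)
    (h6 : P.a6 = Q.a6) (h7 : P.a7 = Q.a7) (h8 : P.a8 = Q.a8) (h9 : P.b8 = Q.b8) :
    co T (x * y * x⁻¹ * y⁻¹) = ⟨0, 0, P.b2 - Q.b2, P.a3 - Q.a3, 0,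
      P.b4 - Q.b4 - (P.a5 - Q.a5) * Q.a2 - (P.b6 - Q.b6) * Q.a1, P.a5 - Q.a5, 0, P.b6 - Q.b6, 0, 0, 0⟩ := by
  apply co_comm' hK
  rw [hP, hQ]
  ext <;> simp only [mul_a1, mul_a2, mul_b2, mul_a3, mul_a4, mul_b4, mul_a5, mul_a6, mul_b6, mul_a7, mul_a8, mul_b8,
    zero_mul, mul_zero, add_zero, zero_add, map_zero, pow_zero, ne_eq, OfNat.ofNat_ne_zero, not_false_eq_true,
    zero_pow, h1, h2, h4, h6, h7, h8, h9, sub_add_cancel]
  ring

/-- `[U, E] ≤ E4` -/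
theorem comm_U_E {x y : U} (hy : y ∈ T.E) : x * y * x⁻¹ * y⁻¹ ∈ T.E4 := by
  rw [mem_E hK] at hy
  obtain ⟨d1, d2, d3, d4, d5, d6, d7⟩ := hy
  rw [mem_E4 hK, comm_shape hK T rfl rfl]
  · refine ⟨rfl, rfl, ?_, rfl, rfl, rfl, rfl, rfl⟩
    change _ - _ = (0 : K)
    generalize co T x = c
    generalize co T y = d at d1 d2 d3 d4 d5 d6 d7 ⊢
    simp only [mul_b2, d1, d2, d3, d4, d5, d6, d7, zero_mul, mul_zero, add_zero, zero_add, map_zero]
    ring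
  all_goals
    generalize co T x = c
    generalize co T y = d at d1 d2 d3 d4 d5 d6 d7 ⊢
    simp only [mul_a1, mul_a2, mul_a4, mul_a6, mul_a7, mul_a8, mul_b8, d1, d2, d3, d4, d5, d6, d7, zero_mul, mul_zero,
      add_zero, zero_add, map_zero]

/-- `[U, E4] ≤ Y` -/
theorem comm_U_E4 {x y : U} (hy : y ∈ T.E4) : x * y * x⁻¹ * y⁻¹ ∈ T.Y := by
  rw [mem_E4 hK] at hy
  obtain ⟨d1, d2, d3, d4, d5, d6, d7, d8⟩ := hy
  rw [mem_Y hK, comm_shape hK T rfl rfl]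
  · refine ⟨rfl, rfl, ?_, ?_, rfl, rfl, rfl, rfl, rfl⟩ <;> change _ - _ = (0 : K)
    all_goals
      generalize co T x = c
      generalize co T y = d at d1 d2 d3 d4 d5 d6 d7 d8 ⊢
      simp only [mul_b2, mul_a3, d1, d2, d3, d4, d5, d6, d7, d8, zero_mul, mul_zero, add_zero, zero_add, map_zero]
      ring
  all_goals
    generalize co T x = c
    generalize co T y = d at d1 d2 d3 d4 d5 d6 d7 d8 ⊢
    simp only [mul_a1, mul_a2, mul_a4, mul_a6, mul_a7, mul_a8, mul_b8, d1, d2, d3, d4, d5, d6, d7, d8, zero_mul,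
      mul_zero, add_zero, zero_add, map_zero]

/-- `[U, D] ≤ E` -/
theorem comm_U_D {x y : U} (hy : y ∈ T.D) : x * y * x⁻¹ * y⁻¹ ∈ T.E := by
  rw [mem_D hK] at hy
  obtain ⟨d1, d2, d3, d4, d5, d6⟩ := hy
  rw [mem_E hK, comm_shape hK T rfl rfl]
  · exact ⟨rfl, rfl, rfl, rfl, rfl, rfl, rfl⟩
  all_goals
    generalize co T x = c
    generalize co T y = d at d1 d2 d3 d4 d5 d6 ⊢
    simp only [mul_a1, mul_a2, mul_a4, mul_a6, mul_a7, mul_a8, mul_b8, d1, d2, d3, d4, d5, d6, zero_mul, mul_zero,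
      add_zero, zero_add, map_zero]
    try ring

/-- squares in `E` -/
theorem sq_E {y : U} (hy : y ∈ T.E) : y * y = 1 := by
  apply co_injective T
  rw [co_mul hK, co_one]
  rw [mem_E hK] at hy
  have h2 := hK.two
  generalize co T y = d at hy ⊢
  obtain ⟨d1, d2, d3, d4, d5, d6, d7⟩ := hy
  have hd : ∀ z : K, z + z = 0 := fun z => by linear_combination z * h2
  ext <;> simp only [mul_a1, mul_a2, mul_b2, mul_a3, mul_a4, mul_b4, mul_a5, mul_a6, mul_b6, mul_a7, mul_a8, mul_b8,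
    d1, d2, d3, d4, d5, d6, d7, zero_mul, mul_zero, add_zero, zero_add, map_zero, pow_zero, ne_eq,
    OfNat.ofNat_ne_zero, not_false_eq_true, zero_pow, hd]

/-- coordinates in `Z2 A37` -/
theorem mem_ZA {y : U} (hy : y ∈ T.Z2 ⊔ T.A37) : (co T y).a1 = 0 ∧ (co T y).a2 = 0 ∧ (co T y).a4 = 0 ∧
    (co T y).a6 = 0 ∧ (co T y).a8 = 0 ∧ (co T y).b8 = 0 := by
  obtain ⟨S, hS⟩ := exists_sub hK T (fun c => c.a1 = 0 ∧ c.a2 = 0 ∧ c.a4 = 0 ∧ c.a6 = 0 ∧ c.a8 = 0 ∧ c.b8 = 0)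
    (⟨rfl, rfl, rfl, rfl, rfl, rfl⟩) (by
    rintro c d ⟨hc0, hc1, hc2, hc3, hc4, hc5⟩ ⟨hd0, hd1, hd2, hd3, hd4, hd5⟩
    refine ⟨?_, ?_, ?_, ?_, ?_, ?_⟩ <;>
      simp only [mul_a1, mul_a2, mul_a4, mul_a6, mul_a8, mul_b8, hc0, hc1, hc2, hc3, hc4, hc5,
        hd0, hd1, hd2, hd3, hd4, hd5, zero_mul, mul_zero, add_zero, zero_add, map_zero,
        pow_zero, ne_eq, OfNat.ofNat_ne_zero, not_false_eq_true, zero_pow])
  have hle : T.Z2 ⊔ T.A37 ≤ S := by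
    refine sup_le ?_ ?_
    · intro z hz
      obtain ⟨w, rfl⟩ := (mem_Z2 hK T).1 hz
      rw [hS, co_x2]
      exact ⟨rfl, rfl, rfl, rfl, rfl, rfl⟩
    · intro z hz
      obtain ⟨d1, d2, d3, d4, d5, d6, d7⟩ := (mem_A37 hK T).1 hz
      rw [hS]
      exact ⟨d1, d2, d4, d5, d6, d7⟩
  exact (hS y).1 (hle hy)

/-- `[D, Z2 A37] ≤ V` -/
theorem comm_D_ZA {x y : U} (hx : x ∈ T.D) (hy : y ∈ T.Z2 ⊔ T.A37) : x * y * x⁻¹ * y⁻¹ ∈ T.V := by
  have hy := mem_ZA hK T hy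
  rw [mem_D hK] at hx
  obtain ⟨c1, c2, c3, c4, c5, c6⟩ := hx
  obtain ⟨d1, d2, d3, d4, d5, d6⟩ := hy
  rw [mem_V hK, comm_shape hK T rfl rfl]
  · refine ⟨rfl, rfl, ?_, ?_, rfl, ?_, rfl, rfl, rfl, rfl⟩ <;> change _ - _ = (0 : K)
    all_goals
      generalize co T x = c at c1 c2 c3 c4 c5 c6 ⊢
      generalize co T y = d at d1 d2 d3 d4 d5 d6 ⊢
      simp only [mul_b2, mul_a3, mul_a5, c1, c2, c3, c4, c5, c6, d1, d2, d3, d4, d5, d6, zero_mul, mul_zero, add_zero,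
        zero_add, map_zero, pow_zero, ne_eq, OfNat.ofNat_ne_zero, not_false_eq_true, zero_pow]
      ring
  all_goals
    generalize co T x = c at c1 c2 c3 c4 c5 c6 ⊢
    generalize co T y = d at d1 d2 d3 d4 d5 d6 ⊢
    simp only [mul_a1, mul_a2, mul_a4, mul_a6, mul_a7, mul_a8, mul_b8, c1, c2, c3, c4, c5, c6, d1, d2, d3, d4, d5, d6,
      zero_mul, mul_zero, add_zero, zero_add, map_zero]

/-- `[E4, Z2 A37] = 1` -/
theorem comm_E4_ZA {x y : U} (hx : x ∈ T.E4) (hy : y ∈ T.Z2 ⊔ T.A37) : x * y = y * x := by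
  have hy := mem_ZA hK T hy
  apply co_injective T
  rw [co_mul hK, co_mul hK]
  rw [mem_E4 hK] at hx
  obtain ⟨c1, c2, c3, c4, c5, c6, c7, c8⟩ := hx
  obtain ⟨d1, d2, d3, d4, d5, d6⟩ := hy
  generalize co T x = c at c1 c2 c3 c4 c5 c6 c7 c8 ⊢
  generalize co T y = d at d1 d2 d3 d4 d5 d6 ⊢
  ext <;> simp only [mul_a1, mul_a2, mul_b2, mul_a3, mul_a4, mul_b4, mul_a5, mul_a6, mul_b6, mul_a7, mul_a8, mul_b8,
    c1, c2, c3, c4, c5, c6, c7, c8, d1, d2, d3, d4, d5, d6, zero_mul, mul_zero, add_zero, zero_add, map_zero, pow_zero,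
    ne_eq, OfNat.ofNat_ne_zero, not_false_eq_true, zero_pow]
  all_goals ring

end

/-- HULL and EXC -/
theorem hull_exc (hhull : StHull.{v}) (hexc : StExc.{u, v}) {K : Type u} [Field K] {σ : K →+* K} {m : ℕ}
    (hK : HypK σ m) {U : Type v} [Group U] (T : TF σ U) {R : Subgroup U} {Γ : Subgroup (MulAut R)}
    (hE : Ess (⊤ : Subgroup U) R 2 Γ) (hA : ¬ R ≤ T.QA) (hB : ¬ R ≤ T.QB) {A Y : Subgroup U} (hYR : Y ≤ R)
    (hYE : Y ≤ T.E) (h1 : ∀ x, ∀ a ∈ A, x * a * x⁻¹ * a⁻¹ ∈ Y) (h2 : ∀ x, ∀ y ∈ Y, x * y * x⁻¹ * y⁻¹ ∈ T.E)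
    (hAR : ¬ A ≤ R) : ∃ y ∈ T.Z2 ⊔ T.A37, ∃ a ∈ A, a * y * a⁻¹ * y⁻¹ ∉ Phi R := by
  obtain ⟨γ, hγ, y0, hy0, a, ha, hcon⟩ := hhull hE A Y le_top hYR (fun y hy e _ => by
    have h1' : y * e * y⁻¹ * e⁻¹ = (e * y * e⁻¹ * y⁻¹)⁻¹ := by group
    rw [h1']
    exact Y.inv_mem (h1 e y hy)) hAR
  refine ⟨((γ y0 : R) : U), ?_, a, ha, hcon⟩
  refine hexc hK T R hA hB _ ?_ ?_
  · have h3 : y0 * y0 = 1 := Subtype.ext (sq_E hK T (hYE hy0))
    have h4 := congrArg (fun e : R => ((γ e : R) : U)) h3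
    simp only [map_mul, map_one, Subgroup.coe_mul, Subgroup.coe_one] at h4
    exact h4
  · intro r hr
    have h3 : (γ⁻¹ ⟨r, hr⟩ * y0 * (γ⁻¹ ⟨r, hr⟩)⁻¹ * y0⁻¹) * (γ⁻¹ ⟨r, hr⟩ * y0 * (γ⁻¹ ⟨r, hr⟩)⁻¹ * y0⁻¹) = 1 :=
      Subtype.ext (sq_E hK T (h2 _ _ hy0))
    have h4 := congrArg (fun e : R => ((γ e : R) : U)) h3
    simp only [map_mul, map_one, map_inv, MulAut.apply_inv_self, Subgroup.coe_mul, Subgroup.coe_one,
      Subgroup.coe_inv] at h4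
    exact h4

/-- **(ESS6a)** -/
theorem stEss6a_of (hhull : StHull.{v}) (hexc : StExc.{u, v}) : StEss6a.{u, v} := by
  intro K _ σ m hK U _ T R Γ hE hY hA hB
  by_contra hcon
  obtain ⟨y, hy, a, ha, h⟩ := hull_exc hhull hexc hK T hE hA hB hY (Y_le_E hK T)
    (fun x a ha => comm_U_E4 hK T ha)
    (fun x y hy => (Y_le_E hK T) (V_le_Y hK T (comm_mem_V hK T hy))) hcon
  apply h
  rw [comm_E4_ZA hK T ha hy, mul_inv_cancel_right, mul_inv_cancel]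
  exact (Phi R).one_mem

/-- `V ≤ Φ(R)` for mixed `R ≥ E4` -/
theorem V_le_Phi (hphi : StPhi.{v}) {K : Type u} [Field K] {σ : K →+* K} {m : ℕ}
    (hK : HypK σ m) {U : Type v} [Group U] (T : TF σ U) {R : Subgroup U} {Γ : Subgroup (MulAut R)}
    (hE : Ess (⊤ : Subgroup U) R 2 Γ) (hA : ¬ R ≤ T.QA) (hB : ¬ R ≤ T.QB) (h4 : T.E4 ≤ R) : T.V ≤ Phi R := by
  haveI := finite_U hK T
  have hpR : IsPGroup 2 R := hE.pgr.of_injective (Subgroup.inclusion hE.E_le) (Subgroup.inclusion_injective _)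
  obtain ⟨-, hRR, -, -, -, -⟩ := hphi R 2 Nat.prime_two inferInstance hpR
  obtain ⟨r1, hr1, hr1B⟩ := SetLike.not_le_iff_exists.1 hB
  obtain ⟨r2, hr2, hr2A⟩ := SetLike.not_le_iff_exists.1 hA
  have ht : (co T r1).a1 ≠ 0 := fun h => hr1B ((mem_QB hK T).2 h)
  have hZ4 : ∀ w, T.x4 0 w ∈ Phi R := by
    intro w
    have h5 := hRR r1 hr1 (T.x6 0 (w * (co T r1).a1⁻¹)) (h4 (Z6_le_E4 T (x6_mem_Z T _)))
    have h6 : r1 * T.x6 0 (w * (co T r1).a1⁻¹) * r1⁻¹ * (T.x6 0 (w * (co T r1).a1⁻¹))⁻¹ = T.x4 0 w := by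
      apply co_injective T
      rw [comm_U_Y hK T (Z6_le_Y T (x6_mem_Z T _)), co_x6, co_x4]
      have e0 : w * (co T r1).a1⁻¹ * (co T r1).a1 = w := inv_mul_cancel_right₀ ht w
      simp [e4, e6, e0]
    rwa [h6] at h5
  -- an element with given `z6`-coordinate
  have hZ6 : ∀ w, T.x6 0 w ∈ Phi R := by
    intro w
    have key : ∀ z : U, z ∈ Phi R → ∀ β : K, co T z = ⟨0, 0, 0, 0, 0, β, 0, 0, w, 0, 0, 0⟩ → T.x6 0 w ∈ Phi R := by
      intro z hz β hzc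
      have h5 : z = T.x4 0 β * T.x6 0 w := by
        rw [← el_co T z, hzc]
        simp [TF.el, H659.TF.x1_zero T.rel, H659.TF.x2_zero T.rel, H659.TF.x3_zero T.rel, H659.TF.x5_zero T.rel,
          H659.TF.x7_zero T.rel, H659.TF.x8_zero T.rel]
      have h6 : T.x6 0 w = (T.x4 0 β)⁻¹ * z := by rw [h5]; group
      rw [h6]
      exact (Phi R).mul_mem ((Phi R).inv_mem (hZ4 β)) hz
    by_cases h8 : (co T r2).a8 = 0
    · have h9 : (co T r2).b8 ≠ 0 := fun h => hr2A ((mem_QA hK T).2 ⟨h8, h⟩)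
      have h5 := hRR r2 hr2 (T.x3 (w * (co T r2).b8⁻¹)) (h4 (X3_le_E4 T (x3_mem T _)))
      have e0 : (co T r2).b8 * (w * (co T r2).b8⁻¹) = w := by field_simp
      have h6 := comm_shape hK T (x := r2) (y := T.x3 (w * (co T r2).b8⁻¹)) rfl rfl (by
        rw [co_x3]
        simp only [mul_a1, e3, zero_mul, mul_zero, add_zero, zero_add, map_zero]) (by
        rw [co_x3]
        simp only [mul_a2, e3, zero_mul, mul_zero, add_zero, zero_add, map_zero]) (by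
        rw [co_x3]
        simp only [mul_a4, e3, zero_mul, mul_zero, add_zero, zero_add, map_zero]) (by
        rw [co_x3]
        simp only [mul_a6, e3, zero_mul, mul_zero, add_zero, zero_add, map_zero]) (by
        rw [co_x3]
        simp only [mul_a7, e3, zero_mul, mul_zero, add_zero, zero_add, map_zero]) (by
        rw [co_x3]
        simp only [mul_a8, e3, zero_mul, mul_zero, add_zero, zero_add, map_zero]) (by
        rw [co_x3]
        simp only [mul_b8, e3, zero_mul, mul_zero, add_zero, zero_add, map_zero])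
      refine key _ h5 _ (h6.trans (Cd.ext rfl rfl ?_ ?_ rfl rfl ?_ rfl ?_ rfl rfl rfl))
      · change _ - _ = (0 : K)
        rw [co_x3]
        simp only [mul_b2, e3, zero_mul, mul_zero, add_zero, zero_add, map_zero, sub_self]
      · change _ - _ = (0 : K)
        rw [co_x3]
        simp only [mul_a3, e3, zero_mul, mul_zero, add_zero, zero_add, map_zero]
        ring
      · change _ - _ = (0 : K)
        rw [co_x3]
        simp only [mul_a5, e3, h8, zero_mul, mul_zero, add_zero, zero_add, map_zero]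
        ring
      · change _ - _ = w
        rw [co_x3]
        simp only [mul_b6, e3, h8, e0, zero_mul, mul_zero, add_zero, zero_add, map_zero, add_sub_cancel_left, pow_zero,
          ne_eq, OfNat.ofNat_ne_zero, not_false_eq_true, zero_pow]
    · have h5 := hRR r2 hr2 (T.x5 (w * (co T r2).a8⁻¹)) (h4 (X5_le_E4 T (x5_mem T _)))
      have h6 := comm_U_Y hK T (x := r2) (X5_le_Y T (x5_mem T (w * (co T r2).a8⁻¹)))
      have e0 : (co T r2).a8 * (w * (co T r2).a8⁻¹) = w := by field_simp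
      refine key _ h5 _ (h6.trans (Cd.ext rfl rfl rfl rfl rfl rfl rfl rfl ?_ rfl rfl rfl))
      change (co T r2).a8 * (co T (T.x5 (w * (co T r2).a8⁻¹))).a5 = w
      rw [co_x5]
      exact e0
  unfold TF.V
  refine sup_le ?_ ?_
  · intro z hz
    obtain ⟨w, rfl⟩ := (mem_Z4 hK T).1 hz
    exact hZ4 w
  · intro z hz
    obtain ⟨w, rfl⟩ := (mem_Z6 hK T).1 hz
    exact hZ6 w

/-- **(ESS6b)** -/
theorem stEss6b_of (hhull : StHull.{v}) (hphi : StPhi.{v}) (hexc : StExc.{u, v}) : StEss6b.{u, v} := by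
  intro K _ σ m hK U _ T R Γ hE h4 hA hB
  have hV := V_le_Phi hphi hK T hE hA hB h4
  have hER : T.E ≤ R := by
    by_contra hcon
    obtain ⟨y, hy, a, ha, h⟩ := hull_exc hhull hexc hK T hE hA hB h4 (E4_le_E hK T)
      (fun x a ha => comm_U_E hK T ha)
      (fun x y hy => (Y_le_E hK T) (comm_U_E4 hK T hy)) hcon
    exact h (hV (comm_D_ZA hK T (E_le_D hK T ha) hy))
  by_contra hcon
  obtain ⟨y, hy, a, ha, h⟩ := hull_exc hhull hexc hK T hE hA hB hER le_rfl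
    (fun x a ha => comm_U_D hK T ha)
    (fun x y hy => (E4_le_E hK T) (comm_U_E hK T hy)) hcon
  exact h (hV (comm_D_ZA hK T ha hy))

end Cfsg.Agent.H659.TF.Ess
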