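import Cfsg.Agent.H659.TF.Ump

/-!
# S5262, StPos: the quotient `X1 X2/Z2 X8/Z8` of `U`, and quotients where `X2, X4, X6` are central (helper659)
-/

set_option autoImplicit false

namespace Cfsg.Agent.H659.TF

open Cfsg.Agent.Octagon.Pkg Cfsg.Agent.H745.TF

universe u v w

/-- the Heisenberg group: `x1 t · x2 p · x8 q` -/
@[ext] structure H3 (K : Type u) where
  t : K
  p : K
  q : K

namespace H3

variable {K : Type u} [Field K]

instance : Mul (H3 K) := ⟨fun x y => ⟨x.t + y.t, x.p + y.p + x.q * y.t, x.q + y.q⟩⟩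
instance : One (H3 K) := ⟨⟨0, 0, 0⟩⟩
instance : Inv (H3 K) := ⟨fun x => ⟨-x.t, -x.p + x.q * x.t, -x.q⟩⟩

@[simp] theorem mul_t (x y : H3 K) : (x * y).t = x.t + y.t := rfl
@[simp] theorem mul_p (x y : H3 K) : (x * y).p = x.p + y.p + x.q * y.t := rfl
@[simp] theorem mul_q (x y : H3 K) : (x * y).q = x.q + y.q := rfl
@[simp] theorem one_t : (1 : H3 K).t = 0 := rfl
@[simp] theorem one_p : (1 : H3 K).p = 0 := rfl
@[simp] theorem one_q : (1 : H3 K).q = 0 := rfl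
@[simp] theorem inv_t (x : H3 K) : (x⁻¹).t = -x.t := rfl
@[simp] theorem inv_p (x : H3 K) : (x⁻¹).p = -x.p + x.q * x.t := rfl
@[simp] theorem inv_q (x : H3 K) : (x⁻¹).q = -x.q := rfl

instance : Group (H3 K) where
  mul_assoc x y z := by ext <;> simp <;> ring
  one_mul x := by ext <;> simp
  mul_one x := by ext <;> simp
  inv_mul_cancel x := by ext <;> simp

end H3

section

variable {K : Type u} [Field K] {σ : K →+* K} {U : Type v} [Group U]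

/-- **The projection onto `X1 X2/Z2 X8/Z8`.** -/
theorem exists_pi (T : TF σ U) (h2 : (2 : K) = 0) :
    ∃ φ : U →* H3 K, (∀ t, φ (T.x1 t) = ⟨t, 0, 0⟩) ∧ (∀ p u, φ (T.x2 p u) = ⟨0, p, 0⟩) ∧ (∀ t, φ (T.x3 t) = 1) ∧
      (∀ p u, φ (T.x4 p u) = 1) ∧ (∀ t, φ (T.x5 t) = 1) ∧ (∀ p u, φ (T.x6 p u) = 1) ∧
      (∀ t, φ (T.x7 t) = 1) ∧ (∀ p u, φ (T.x8 p u) = ⟨0, 0, p⟩) := by
  refine ump T (H := H3 K) (y1 := fun t => ⟨t, 0, 0⟩) (y2 := fun p _ => ⟨0, p, 0⟩) (y3 := fun _ => 1) (y4 := fun _ _ => 1)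
    (y5 := fun _ => 1) (y6 := fun _ _ => 1) (y7 := fun _ => 1) (y8 := fun p _ => ⟨0, 0, p⟩)
    { m1 := ?_, m3 := ?_, m5 := ?_, m7 := ?_, m2 := ?_, m4 := ?_, m6 := ?_, m8 := ?_, r12 := ?_, r13 := ?_, r14 := ?_,
      r15 := ?_, r16 := ?_, r17 := ?_, r18 := ?_, r23 := ?_, r24 := ?_, r25 := ?_, r26 := ?_, r27 := ?_, r28 := ?_,
      r34 := ?_, r35 := ?_, r36 := ?_, r37 := ?_, r38 := ?_, r45 := ?_, r46 := ?_, r47 := ?_, r48 := ?_, r56 := ?_,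
      r57 := ?_, r58 := ?_, r67 := ?_, r68 := ?_, r78 := ?_ }
  case refine_15 =>
    intro t q v
    ext
    · simp
    · simp
      linear_combination (-(q * t)) * h2
    · simp
  all_goals
    intros
    ext <;> simp

/-- the even root elements of `Q0` are central in the image, of exponent two -/
structure Ce (T : TF σ U) {A : Type w} [Group A] (ψ : U →* A) : Prop where
  c2 : ∀ p u g, ψ (T.x2 p u) * ψ g = ψ g * ψ (T.x2 p u)
  c4 : ∀ p u g, ψ (T.x4 p u) * ψ g = ψ g * ψ (T.x4 p u)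
  c6 : ∀ p u g, ψ (T.x6 p u) * ψ g = ψ g * ψ (T.x6 p u)
  s4 : ∀ p u, ψ (T.x4 p u) * ψ (T.x4 p u) = 1
  s6 : ∀ p u, ψ (T.x6 p u) * ψ (T.x6 p u) = 1

theorem one_of_rel {A : Type w} [Group A] (ψ : U →* A) {a b c : U} (h : a * b = b * a * c) (hc : ψ a * ψ b = ψ b * ψ a) :
    ψ c = 1 := by
  have h1 := congrArg ψ h
  rw [map_mul, map_mul, map_mul, hc] at h1
  exact (mul_eq_left.1 h1.symm)

theorem split4 (T : TF σ U) (p u : K) : T.x4 p u = T.x4 p 0 * T.x4 0 u := by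
  rw [T.rel.m4]
  simp

theorem split6 (T : TF σ U) (p u : K) : T.x6 p u = T.x6 p 0 * T.x6 0 u := by
  rw [T.rel.m6]
  simp

theorem split2 (T : TF σ U) (p u : K) : T.x2 p u = T.x2 p 0 * T.x2 0 u := by
  rw [T.rel.m2]
  simp

theorem split8 (T : TF σ U) (p u : K) : T.x8 p u = T.x8 p 0 * T.x8 0 u := by
  rw [T.rel.m8]
  simp

namespace Ce

variable {T : TF σ U} {A : Type w} [Group A] {ψ : U →* A} (h : Ce T ψ)
include h

theorem e3 (s : K) : ψ (T.x3 s) = 1 := by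
  have h1 := T.rel.r24 1 0 s 0
  rw [one_mul] at h1
  exact one_of_rel ψ h1 (h.c2 _ _ _)

theorem e5 (s : K) : ψ (T.x5 s) = 1 := by
  have h1 := T.rel.r46 1 0 s 0
  rw [one_mul] at h1
  exact one_of_rel ψ h1 (h.c4 _ _ _)

theorem e7 (s : K) : ψ (T.x7 s) = 1 := by
  have h1 := T.rel.r68 1 0 s 0
  rw [one_mul] at h1
  exact one_of_rel ψ h1 (h.c6 _ _ _)

theorem e40 (s : K) : ψ (T.x4 0 s) = 1 := by
  have h1 := T.rel.r25 1 0 s
  rw [one_mul] at h1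
  exact one_of_rel ψ h1 (h.c2 _ _ _)

theorem e60 (s : K) : ψ (T.x6 0 s) = 1 := by
  have h1 := T.rel.r47 1 0 s
  rw [one_mul] at h1
  exact one_of_rel ψ h1 (h.c4 _ _ _)

theorem e20 (s : K) : ψ (T.x2 0 s) = 1 := by
  have h1 := T.rel.r14 1 s 0
  rw [one_mul] at h1
  exact one_of_rel ψ h1 (h.c4 _ _ _).symm

theorem e4 (p u : K) : ψ (T.x4 p u) = ψ (T.x4 p 0) := by
  rw [split4, map_mul, h.e40, mul_one]

theorem e6 (p u : K) : ψ (T.x6 p u) = ψ (T.x6 p 0) := by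
  rw [split6, map_mul, h.e60, mul_one]

theorem e2 (p u : K) : ψ (T.x2 p u) = ψ (T.x2 p 0) := by
  rw [split2, map_mul, h.e20, mul_one]

theorem add4 (a b : K) : ψ (T.x4 (a + b) 0) = ψ (T.x4 a 0) * ψ (T.x4 b 0) := by
  rw [← map_mul, T.rel.m4, h.e4 (a + b) (0 + 0 + a * σ b)]

theorem add2 (a b : K) : ψ (T.x2 (a + b) 0) = ψ (T.x2 a 0) * ψ (T.x2 b 0) := by
  rw [← map_mul, T.rel.m2, h.e2 (a + b) (0 + 0 + a * σ b)]

theorem e46 (p q : K) : ψ (T.x4 (σ p * q) 0) = ψ (T.x6 (p * σ q) 0) := by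
  have h1 := T.rel.r28 p 0 q 0
  simp only [mul_assoc] at h1
  rw [← mul_assoc (T.x8 q 0)] at h1
  have h2 := one_of_rel ψ h1 (h.c2 _ _ _)
  rw [map_mul, map_mul, map_mul, map_mul, h.e3, h.e5, h.e7, one_mul, one_mul, mul_one, h.e4, h.e6] at h2
  rw [eq_inv_of_mul_eq_one_left h2]
  exact inv_eq_of_mul_eq_one_right (h.s6 _ _)

/-- for `q > 2` the images of `X4` and `X6` are trivial -/
theorem all4 (hs : ∀ x, σ (σ x) = x ^ 2) {r : K} (h1 : r ^ 2 + r ≠ 0) (x : K) : ψ (T.x4 x 0) = 1 := by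
  have key : ∀ q, ψ (T.x4 (r ^ 2 * q) 0) = ψ (T.x4 (r * q) 0) := by
    intro q
    have e1 := h.e46 (σ r) q
    have e2 := h.e46 1 (r * q)
    rw [hs] at e1
    rw [map_one, one_mul, one_mul, map_mul] at e2
    rw [e1, e2]
  have h3 : ψ (T.x4 ((r ^ 2 + r) * (x / (r ^ 2 + r))) 0) = 1 := by
    rw [add_mul, h.add4, key]
    exact h.s4 _ _
  rwa [mul_div_cancel₀ _ h1] at h3

theorem all6 (hs : ∀ x, σ (σ x) = x ^ 2) {r : K} (h1 : r ^ 2 + r ≠ 0) (x : K) : ψ (T.x6 x 0) = 1 := by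
  have e1 := h.e46 x 1
  rw [map_one, mul_one, mul_one] at e1
  rw [← e1]
  exact h.all4 hs h1 _

/-- the commutator of `X1` and `X8` -/
theorem comm18 (hs : ∀ x, σ (σ x) = x ^ 2) {r : K} (h1 : r ^ 2 + r ≠ 0) (t q v : K) :
    ψ (T.x1 t) * ψ (T.x8 q v) = ψ (T.x8 q v) * ψ (T.x1 t) * ψ (T.x2 (t * q) 0) := by
  have h2 := congrArg ψ (T.rel.r18 t q v)
  simp only [map_mul] at h2
  rw [h2, h.e2, h.e3, h.e4, h.all4 hs h1, h.e5, h.e6, h.all6 hs h1, h.e7]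
  simp only [mul_one]

end Ce

end

end Cfsg.Agent.H659.TF
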